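import Cfsg.Agent.Lib.AutPGL34.RelsMul
import Cfsg.Agent.Lib.PGroup.ExtraspecialClassify

/-!
# Four anticommuting square roots of the central involution
-/

set_option autoImplicit false
set_option linter.style.haveILetI false

namespace Cfsg.Lib.AutPGL34

open Subgroup
open scoped commutatorElement

/-- Four anticommuting square roots of `z`. -/
structure Quad {K : Type*} [Group K] (E : Subgroup K) (z : K) (e : ℕ → K) : Prop where
  mem : ∀ i < 4, e i ∈ E
  esq : ∀ i < 4, e i * e i = z
  anti : ∀ i < 4, ∀ j < i, e i * e j = z * (e j * e i)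

open Cfsg.Lib.Extraspecial in
/-- An extraspecial group of order 32 without elementary abelian subgroups of order 8 has four such elements. -/
theorem exists_quad_self {P : Type*} [Group P] [Finite P] (h : Cfsg.IsExtraspecial 2 P) (h32 : Nat.card P = 32)
    (hno : ∀ A : Subgroup P, Cfsg.IsElementaryAbelian 2 A → Nat.card A ≠ 8) :
    ∃ (z : P) (e : ℕ → P), z ≠ 1 ∧ z * z = 1 ∧ z ∈ center P ∧ Quad ⊤ z e := by
  haveI : Fact (Nat.Prime 2) := ⟨Nat.prime_two⟩
  obtain ⟨z, L, hz, hL, hlen, hcard, hcase⟩ := two_kinds h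
  have hL2 : L.length = 2 := by
    rw [h32, show (32 : ℕ) = 2 ^ 5 by norm_num] at hcard
    have := Nat.pow_right_injective (le_refl 2) hcard
    omega
  obtain ⟨⟨a, b⟩, ⟨c, d⟩, rfl⟩ : ∃ t t', L = [t, t'] := List.length_eq_two.1 hL2
  obtain ⟨-, -, hab, hL'⟩ := hL.inv_cons
  obtain ⟨hc, hd, hcd, -⟩ := hL'.inv_cons
  obtain ⟨-, hca, hcb⟩ := mem_perp.1 hc
  obtain ⟨-, hda, hdb⟩ := mem_perp.1 hd
  dsimp only at hab hc hd hcd hca hcb hda hdb
  have hzc : ∀ x, x * z = z * x := fun x => mem_center_iff.1 hz.central x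
  have hzz : z * z = 1 := hz.sq_z
  have swapab : a * b = z * (b * a) := by
    rw [← hab, commutatorElement_def]; group
  have swapcd : c * d = z * (d * c) := by
    rw [← hcd, commutatorElement_def]; group
  have swapba : b * a = z * (a * b) := by rw [swapab, ← mul_assoc, hzz, one_mul]
  have swapdc : d * c = z * (c * d) := by rw [swapcd, ← mul_assoc, hzz, one_mul]
  rcases hcase with ⟨hD, -⟩ | ⟨⟨q, L', hq, hQ, hD⟩, -⟩
  · exfalso
    obtain ⟨ha2, -⟩ := hD _ (List.mem_cons_self ..)
    obtain ⟨hc2, -⟩ := hD _ (List.mem_cons_of_mem _ (List.mem_cons_self ..))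
    dsimp only at ha2 hc2
    rw [pow_two] at ha2 hc2
    set A : Subgroup P := zpowers c ⊔ (zpowers a ⊔ zpowers z) with hA
    have hgen : A = Subgroup.closure {c, a, z} := by
      rw [hA, zpowers_eq_closure, zpowers_eq_closure, zpowers_eq_closure, ← Subgroup.closure_union,
        ← Subgroup.closure_union]
      congr 1
    haveI hcomm : IsMulCommutative A := by
      rw [hgen]
      refine Subgroup.isMulCommutative_closure ?_
      rintro x (rfl | rfl | rfl) y (rfl | rfl | rfl) <;>
        first | rfl | exact hca.eq | exact hca.eq.symm | exact hzc _ | exact (hzc _).symm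
    have hel : Cfsg.IsElementaryAbelian 2 A := by
      refine ⟨hcomm, fun x hx => ?_⟩
      have hx' : x ∈ Subgroup.closure {c, a, z} := hgen ▸ hx
      clear hx
      induction hx' using Subgroup.closure_induction with
      | mem g hg =>
        rcases hg with rfl | rfl | rfl <;> simp [pow_two, *]
      | one => simp
      | mul u v hu hv ihu ihv =>
        have hc' : Commute u v :=
          congrArg Subtype.val (hcomm.is_comm.comm ⟨u, hgen ▸ hu⟩ ⟨v, hgen ▸ hv⟩)
        rw [hc'.mul_pow, ihu, ihv, one_mul]
      | inv u hu ihu => rw [inv_pow, ihu, inv_one]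
    refine hno A hel ?_
    have hnorm : ∀ g : P, (∀ w ∈ ({a, z} : Set P), g * w = w * g) →
        g ∈ normalizer ((zpowers a ⊔ zpowers z : Subgroup P) : Set P) := fun g hg => by
      have hle : zpowers a ⊔ zpowers z ≤ centralizer ({g} : Set P) :=
        sup_le (zpowers_le.2 (mem_centralizer_singleton_iff.2 (hg a (by simp)).symm))
          (zpowers_le.2 (mem_centralizer_singleton_iff.2 (hg z (by simp)).symm))
      refine mem_normalizer_iff.2 fun w => ⟨fun hw => ?_, fun hw => ?_⟩
      · rwa [← mem_centralizer_singleton_iff.1 (hle hw), mul_inv_cancel_right]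
      · have h1 := mem_centralizer_singleton_iff.1 (hle hw)
        have h2 : g * w * g⁻¹ = w := by
          have h3 : g * (g * w * g⁻¹) = g * w := by rw [← h1, inv_mul_cancel_right]
          exact mul_left_cancel h3
        rwa [h2] at hw
    have hle : Nat.card A ≤ 8 := by
      have h2z : Nat.card (zpowers z) = 2 := by rw [Nat.card_zpowers, hz.ord]
      have h1 := card_sup_zpowers_le (p := 2) (K := zpowers z) (g := a)
        (mem_normalizer_iff.2 fun w => ⟨fun hw => by
          have : a * w * a⁻¹ = w := by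
            obtain ⟨i, rfl⟩ := mem_zpowers_iff.1 hw
            rw [((show Commute a z from hzc a).zpow_right i).eq, mul_inv_cancel_right]
          rwa [this], fun hw => by
          obtain ⟨i, hi⟩ := mem_zpowers_iff.1 hw
          have : w = z ^ i := by
            rw [show w = a⁻¹ * (a * w * a⁻¹) * a by group, ← hi, mul_assoc,
              ← ((show Commute a z from hzc a).zpow_right i).eq, inv_mul_cancel_left]
          exact mem_zpowers_iff.2 ⟨i, this.symm⟩⟩) (by rw [pow_two, ha2]; exact one_mem _)
      have h2 := card_sup_zpowers_le (p := 2) (K := zpowers a ⊔ zpowers z) (g := c)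
        (hnorm c (by rintro w (rfl | rfl); exacts [hca.eq, hzc c])) (by rw [pow_two, hc2]; exact one_mem _)
      rw [h2z] at h1
      calc Nat.card A ≤ 2 * Nat.card ↥(zpowers a ⊔ zpowers z) := h2
        _ ≤ 2 * (2 * 2) := Nat.mul_le_mul_left 2 h1
        _ = 8 := rfl
    have hzb : ∀ w : P, w ∈ zpowers a ⊔ zpowers z → w * d = d * w := fun w hw => by
      have : w ∈ centralizer ({d} : Set P) := by
        refine (sup_le ?_ ?_ : zpowers a ⊔ zpowers z ≤ centralizer ({d} : Set P)) hw
        · exact zpowers_le.2 (mem_centralizer_singleton_iff.2 hda.eq.symm)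
        · exact zpowers_le.2 (mem_centralizer_singleton_iff.2 (hzc d).symm)
      exact mem_centralizer_singleton_iff.1 this
    have hzne : z ≠ 1 := hz.ne_one
    have hc_not : c ∉ zpowers a ⊔ zpowers z := fun hm => hzne (by
      have h1 := hzb c hm
      exact mul_eq_right.1 (swapcd.symm.trans h1))
    have ha_not : a ∉ zpowers z := fun hm => by
      have : a ∈ centralizer ({b} : Set P) :=
        zpowers_le.2 (mem_centralizer_singleton_iff.2 (hzc b).symm) hm
      exact hzne (mul_eq_right.1 (swapab.symm.trans (mem_centralizer_singleton_iff.1 this)))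
    have h4 : 2 < Nat.card ↥(zpowers a ⊔ zpowers z) := by
      rw [← hz.ord, ← Nat.card_zpowers]
      by_contra hcon
      exact ha_not ((Subgroup.eq_of_le_of_card_ge le_sup_right (not_lt.1 hcon)).symm ▸
        mem_sup_left (mem_zpowers a))
    have hlt : Nat.card ↥(zpowers a ⊔ zpowers z) < Nat.card A := by
      by_contra hcon
      exact hc_not ((Subgroup.eq_of_le_of_card_ge le_sup_right (not_lt.1 hcon)).symm ▸
        mem_sup_left (mem_zpowers c))
    obtain ⟨i, hi⟩ := (Subgroup.card_subgroup_dvd_card (zpowers a ⊔ zpowers z)).trans (dvd_of_eq h32)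
    have hdvd : Nat.card ↥(zpowers a ⊔ zpowers z) ∣ Nat.card A :=
      Subgroup.card_dvd_of_le le_sup_right
    have h32' : Nat.card ↥(zpowers a ⊔ zpowers z) ∣ 32 := ⟨i, hi⟩
    have hAd : Nat.card A ∣ 32 := (Subgroup.card_subgroup_dvd_card A).trans (dvd_of_eq h32)
    generalize Nat.card ↥(zpowers a ⊔ zpowers z) = m at h4 hlt hdvd h32'
    generalize Nat.card A = n at hle hlt hdvd hAd
    interval_cases n <;> interval_cases m <;> omega
  · obtain ⟨rfl, rfl⟩ : (a, b) = q ∧ [(c, d)] = L' := List.cons.inj hq
    obtain ⟨ha2, hb2⟩ := hQ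
    obtain ⟨hc2, hd2⟩ := hD _ (List.mem_cons_self ..)
    dsimp only at ha2 hb2 hc2 hd2
    rw [pow_two] at ha2 hb2 hc2 hd2
    refine ⟨z, fun i => if i = 0 then a else if i = 1 then b else if i = 2 then a * (b * c) else a * (b * d),
      hz.ne_one, hzz, hz.central, fun _ _ => mem_top _, ?_, ?_⟩
    · have r1 : ∀ x, z * (z * x) = x := fun x => by rw [← mul_assoc, hzz, one_mul]
      have r2 : ∀ w x : P, w * (z * x) = z * (w * x) := fun w x => by rw [← mul_assoc, hzc, mul_assoc]
      intro i hi
      interval_cases i <;>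
        simp [mul_assoc, ha2, hb2, hc2, hd2, swapba, hzc a, hzc b, hzc c, hzc d, r1, r2, hzz, hca.eq, hcb.eq,
          hda.eq, hdb.eq, show ∀ x, b * (a * x) = z * (a * (b * x)) from fun x => by
            rw [← mul_assoc, swapba, mul_assoc, mul_assoc],
          show ∀ x, c * (a * x) = a * (c * x) from fun x => by rw [← mul_assoc, hca.eq, mul_assoc],
          show ∀ x, c * (b * x) = b * (c * x) from fun x => by rw [← mul_assoc, hcb.eq, mul_assoc],
          show ∀ x, d * (a * x) = a * (d * x) from fun x => by rw [← mul_assoc, hda.eq, mul_assoc],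
          show ∀ x, d * (b * x) = b * (d * x) from fun x => by rw [← mul_assoc, hdb.eq, mul_assoc],
          show ∀ x, a * (a * x) = z * x from fun x => by rw [← mul_assoc, ha2],
          show ∀ x, b * (b * x) = z * x from fun x => by rw [← mul_assoc, hb2]]
    · have r1 : ∀ x, z * (z * x) = x := fun x => by rw [← mul_assoc, hzz, one_mul]
      have r2 : ∀ w x : P, w * (z * x) = z * (w * x) := fun w x => by rw [← mul_assoc, hzc, mul_assoc]
      intro i hi j hj
      interval_cases i <;> interval_cases j <;>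
        simp [mul_assoc, ha2, hb2, hc2, hd2, swapba, swapdc, hzc a, hzc b, hzc c, hzc d, r1, r2, hzz, hca.eq,
          hcb.eq, hda.eq, hdb.eq, show ∀ x, b * (a * x) = z * (a * (b * x)) from fun x => by
            rw [← mul_assoc, swapba, mul_assoc, mul_assoc],
          show ∀ x, c * (a * x) = a * (c * x) from fun x => by rw [← mul_assoc, hca.eq, mul_assoc],
          show ∀ x, c * (b * x) = b * (c * x) from fun x => by rw [← mul_assoc, hcb.eq, mul_assoc],
          show ∀ x, d * (a * x) = a * (d * x) from fun x => by rw [← mul_assoc, hda.eq, mul_assoc],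
          show ∀ x, d * (b * x) = b * (d * x) from fun x => by rw [← mul_assoc, hdb.eq, mul_assoc],
          show ∀ x, a * (a * x) = z * x from fun x => by rw [← mul_assoc, ha2],
          show ∀ x, b * (b * x) = z * x from fun x => by rw [← mul_assoc, hb2]]

/-- The same inside a bigger group. -/
theorem exists_quad {K : Type*} [Group K] [Finite K] {E : Subgroup K} {z : K} (hz : z ≠ 1) (hz2 : z * z = 1)
    (hzE : z ∈ E) (hzc : ∀ x, x * z = z * x) (hE : Cfsg.IsExtraspecial 2 E) (h32 : Nat.card E = 32)
    (hno : ∀ A : Subgroup E, Cfsg.IsElementaryAbelian 2 A → Nat.card A ≠ 8) :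
    ∃ e : ℕ → K, Quad E z e := by
  obtain ⟨w, e, hw, hw2, hwc, hq⟩ := exists_quad_self hE h32 hno
  have hwz : (w : K) = z := by
    have h2 := hE.2
    rw [Nat.card_eq_two_iff' (1 : center E)] at h2
    obtain ⟨u, -, huniq⟩ := h2
    have hzc' : (⟨z, hzE⟩ : E) ∈ center E := mem_center_iff.2 fun x => Subtype.ext (hzc x)
    have h1 := huniq ⟨w, hwc⟩ fun h => hw (congrArg Subtype.val h)
    have h3 := huniq ⟨⟨z, hzE⟩, hzc'⟩ fun h => hz (congrArg (fun x : center E => ((x : E) : K)) h)
    exact congrArg (fun x : center E => ((x : E) : K)) (h1.trans h3.symm)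
  refine ⟨fun i => e i, fun i _ => (e i).2, fun i hi => ?_, fun i hi j hj => ?_⟩
  · rw [← hwz]; exact congrArg Subtype.val (hq.esq i hi)
  · rw [← hwz]; exact congrArg Subtype.val (hq.anti i hi j hj)

end Cfsg.Lib.AutPGL34
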