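import Cfsg.Agent.Lib.AutPGL34.Index
import Cfsg.Agent.Lib.Syl34.Embed

/-!
# Coordinates on the subgroup of order 64
-/

set_option autoImplicit false
set_option linter.style.haveILetI false
set_option maxRecDepth 10000

namespace Cfsg.Lib.AutPGL34

open Subgroup Cfsg Cfsg.Lib

theorem xor_two : ∀ a < 4, ∀ b < 4, a ^^^ b < 4 ∧ fmulM a b < 4 := by decide +kernel

theorem fmul_zero : ∀ a < 4, fmulM 0 a = 0 ∧ fmulM a 0 = 0 ∧ a ^^^ a = 0 ∧ 0 ^^^ a = a ∧ a ^^^ 0 = a := by
  decide +kernel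

/-- The field of four elements written in bits. -/
theorem exists_bits (F : Type*) [Field F] [Fintype F] (hF : Fintype.card F = 4) :
    ∃ b : F → ℕ, (∀ a, b a < 4) ∧ Function.Injective b ∧ (∀ n < 4, ∃ a, b a = n) ∧ b 0 = 0 ∧
      (∀ x y, b (x + y) = b x ^^^ b y) ∧ ∀ x y, b (x * y) = fmulM (b x) (b y) := by
  classical
  obtain ⟨h2, w, hw, hw0, hw1, hall⟩ := Syl34.exists_omega_list hF
  have hw11 : w + 1 ≠ 0 := fun h => hw1 (by linear_combination h - h2)
  have e2 : w + 1 ≠ 1 := fun h => hw0 (by linear_combination h)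
  have e3 : w + 1 ≠ w := fun h => one_ne_zero (α := F) (by linear_combination h)
  let b : F → ℕ := fun a => if a = 0 then 0 else if a = 1 then 1 else if a = w then 2 else 3
  have b0 : b 0 = 0 := by simp [b]
  have b1 : b 1 = 1 := by simp [b]
  have bw : b w = 2 := by simp [b, hw0, hw1]
  have bw1 : b (w + 1) = 3 := by simp [b, hw11, e2, e3]
  have f11 : (1 : F) + 1 = 0 := by linear_combination h2
  refine ⟨b, fun a => ?_, fun x y h => ?_, fun n hn => ?_, b0, fun x y => ?_, fun x y => ?_⟩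
  · rcases hall a with h | h | h | h <;> rw [h] <;> omega
  · rcases hall x with hx | hx | hx | hx <;> rcases hall y with hy | hy | hy | hy <;> rw [hx, hy] at h ⊢ <;>
      simp [b0, b1, bw, bw1] at h
  · interval_cases n
    exacts [⟨0, b0⟩, ⟨1, b1⟩, ⟨w, bw⟩, ⟨w + 1, bw1⟩]
  · rcases hall x with hx | hx | hx | hx <;> rcases hall y with hy | hy | hy | hy <;> rw [hx, hy]
    all_goals simp only [zero_add, add_zero, b0, b1, bw, bw1]
    all_goals first
      | rfl
      | (rw [f11, b0]; rfl)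
      | (rw [show w + w = 0 by linear_combination w * h2, b0]; rfl)
      | (rw [show (1 : F) + w = w + 1 by ring, bw1]; rfl)
      | (rw [bw1]; rfl)
      | (rw [show (1 : F) + (w + 1) = w by linear_combination h2, bw]; rfl)
      | (rw [show w + 1 + 1 = w by linear_combination h2, bw]; rfl)
      | (rw [show w + (w + 1) = 1 by linear_combination w * h2, b1]; rfl)
      | (rw [show w + 1 + w = 1 by linear_combination w * h2, b1]; rfl)
      | (rw [show w + 1 + (w + 1) = 0 by linear_combination (w + 1) * h2, b0]; rfl)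
  · rcases hall x with hx | hx | hx | hx <;> rcases hall y with hy | hy | hy | hy <;> rw [hx, hy]
    all_goals simp only [zero_mul, mul_zero, one_mul, mul_one, b0, b1, bw, bw1]
    all_goals first
      | rfl
      | (rw [hw, bw1]; rfl)
      | (rw [show w * (w + 1) = 1 by linear_combination hw + w * h2, b1]; rfl)
      | (rw [show (w + 1) * w = 1 by linear_combination hw + w * h2, b1]; rfl)
      | (rw [show (w + 1) * (w + 1) = w by linear_combination hw + (w + 1) * h2, bw]; rfl)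

variable {G : Type*} [Group G] [Finite G] {z : G} {al : Bool} {f : ℕ × ℕ → G}

namespace Mdl

variable (M : Mdl z al false f)
include M

omit [Finite G] in
theorem inU_eq (x : ℕ × ℕ) (hx : Ok x) (hu : inU x = true) :
    ∃ a < 4, ∃ b < 4, ∃ c < 4, crdM al a b c = x := by
  classical
  let L := (List.range 64).map fun p => crdM al (p / 16) (p / 4 % 4) (p % 4)
  have hsub : L.toFinset ⊆ (allM.filter inU).toFinset := by
    intro y hy
    obtain ⟨p, hp, rfl⟩ := List.mem_map.1 (List.mem_toFinset.1 hy)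
    obtain ⟨h1, h2, h3⟩ := crd_mem al _ (show p / 16 < 4 by have := List.mem_range.1 hp; omega)
      (p / 4 % 4) (Nat.mod_lt _ (by norm_num)) (p % 4) (Nat.mod_lt _ (by norm_num))
    exact List.mem_toFinset.2 (List.mem_filter.2 ⟨ok_iff.1 ⟨h2, h3⟩, h1⟩)
  have heq : L.toFinset = (allM.filter inU).toFinset := Finset.eq_of_subset_of_card_le hsub (by
    rw [List.toFinset_card_of_nodup (crd_inj al), List.toFinset_card_of_nodup (allM_nodup.filter inU), card_U,
      List.length_map, List.length_range])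
  have hm : x ∈ L.toFinset := by
    rw [heq, List.mem_toFinset]
    exact List.mem_filter.2 ⟨ok_iff.1 hx, hu⟩
  obtain ⟨p, hp, rfl⟩ := List.mem_map.1 (List.mem_toFinset.1 hm)
  exact ⟨p / 16, (by have := List.mem_range.1 hp; omega), p / 4 % 4, Nat.mod_lt _ (by norm_num), p % 4,
    Nat.mod_lt _ (by norm_num), rfl⟩

omit [Finite G] in
theorem f_crd_mul {a b c a' b' c' : ℕ} (ha : a < 4) (hb : b < 4) (hc : c < 4) (ha' : a' < 4) (hb' : b' < 4)
    (hc' : c' < 4) :
    f (crdM al a b c) * f (crdM al a' b' c') = f (crdM al (a ^^^ a') (b ^^^ b') ((c ^^^ c') ^^^ fmulM a b')) := by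
  obtain ⟨-, h1⟩ := crd_mem al a ha b hb c hc
  obtain ⟨-, h2⟩ := crd_mem al a' ha' b' hb' c' hc'
  rw [M.mul _ _ h1 h2, crd_mul al a ha b hb c hc a' ha' b' hb' c' hc']

omit [Finite G] in
theorem gen_involutions (x : ℕ × ℕ) (hx : Ok x) (hu : inU x = true) :
    ∃ a b, Ok a ∧ Ok b ∧ inU a = true ∧ inU b = true ∧ f a * f a = 1 ∧ f b * f b = 1 ∧ f x = f a * f b := by
  obtain ⟨a, ha, b, hb, c, hc, rfl⟩ := M.inU_eq x hx hu
  obtain ⟨u1, o1⟩ := crd_mem al 0 (by norm_num) b hb c hc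
  obtain ⟨u2, o2⟩ := crd_mem al a ha 0 (by norm_num) 0 (by norm_num)
  obtain ⟨f1, f2, f3, f4, f5⟩ := fmul_zero b hb
  obtain ⟨g1, g2, g3, g4, g5⟩ := fmul_zero a ha
  obtain ⟨-, -, c3, -, c5⟩ := fmul_zero c hc
  refine ⟨crdM al 0 b c, crdM al a 0 0, o1, o2, u1, u2, ?_, ?_, ?_⟩
  · rw [M.f_crd_mul (by norm_num) hb hc (by norm_num) hb hc, f3, c3, f1]
    simp [crd_zero, M.one]
  · rw [M.f_crd_mul ha (by norm_num) (by norm_num) ha (by norm_num) (by norm_num), g3, g2]
    simp [crd_zero, M.one]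
  · rw [M.f_crd_mul (by norm_num) hb hc ha (by norm_num) (by norm_num), g4, f5, c5, show fmulM 0 0 = 0 from
      (fmul_zero 0 (by norm_num)).1, c5]

/-- The normal subgroup of index four with coordinates on its Sylow subgroup. -/
theorem exists_coords {F : Type*} [Field F] [Fintype F] (hF : Fintype.card F = 4) :
    ∃ (N : Subgroup G) (_ : N.Normal) (Q : Sylow 2 N) (c : Syl34.Crd (Q : Subgroup N) F) (h : G),
      N.index = 4 ∧ (∃ hz : z ∈ N, (⟨z, hz⟩ : N) ∈ c.Z) ∧ h * z = z * h ∧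
        c.A.map (MulAut.conjNormal h : MulAut N).toMonoidHom ≤ c.B := by
  classical
  haveI : Fact (Nat.Prime 2) := ⟨Nat.prime_two⟩
  obtain ⟨P, hP⟩ := M.exists_sylow
  obtain ⟨N, hN, hidx, hU⟩ := M.exists_index_four P hP M.gen_involutions
  haveI := hN
  obtain ⟨Q, hQ⟩ := Syl34.exists_sylow_inf P N
  obtain ⟨bt, hlt, hinj, hsur, hb0, hadd, hmul⟩ := exists_bits F hF
  have mem : ∀ g : N, g ∈ (Q : Subgroup N) ↔ ∃ x, Ok x ∧ inU x = true ∧ f x = g := fun g => by
    rw [← hU, hQ, mem_subgroupOf, hP, mem_inf]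
    exact ⟨fun h => ⟨h, g.2⟩, fun h => h.1⟩
  let pt : F × F × F → ℕ × ℕ := fun p => crdM al (bt p.1) (bt p.2.1) (bt p.2.2)
  have hpt : ∀ p, Ok (pt p) ∧ inU (pt p) = true := fun p => by
    obtain ⟨h1, h2⟩ := crd_mem al _ (hlt p.1) _ (hlt p.2.1) _ (hlt p.2.2)
    exact ⟨h2, h1⟩
  have hptN : ∀ p, f (pt p) ∈ N := fun p => ((hU _).2 ⟨pt p, (hpt p).1, (hpt p).2, rfl⟩).2
  let toQ : F × F × F → (Q : Subgroup N) := fun p =>
    ⟨⟨f (pt p), hptN p⟩, (mem _).2 ⟨pt p, (hpt p).1, (hpt p).2, rfl⟩⟩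
  have hbij : Function.Bijective toQ := by
    refine ⟨fun p q h => ?_, fun ⟨g, hg⟩ => ?_⟩
    · have e : pt p = pt q := M.inj _ _ (hpt p).1 (hpt q).1 (congrArg (fun u : (Q : Subgroup N) => ((u : N) : G)) h)
      have hnd := crd_inj al
      rw [List.nodup_map_iff_inj_on List.nodup_range] at hnd
      have hn : ∀ {a b c : ℕ}, a < 4 → b < 4 → c < 4 →
          crdM al ((16 * a + 4 * b + c) / 16) ((16 * a + 4 * b + c) / 4 % 4) ((16 * a + 4 * b + c) % 4) =
            crdM al a b c := by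
        intro a b c ha hb hc
        congr 1 <;> omega
      have := hnd (16 * bt p.1 + 4 * bt p.2.1 + bt p.2.2) (List.mem_range.2 (by
          have := hlt p.1; have := hlt p.2.1; have := hlt p.2.2; omega))
        (16 * bt q.1 + 4 * bt q.2.1 + bt q.2.2) (List.mem_range.2 (by
          have := hlt q.1; have := hlt q.2.1; have := hlt q.2.2; omega))
        (by rw [hn (hlt _) (hlt _) (hlt _), hn (hlt _) (hlt _) (hlt _)]; exact e)
      have := hlt p.1; have := hlt p.2.1; have := hlt p.2.2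
      have := hlt q.1; have := hlt q.2.1; have := hlt q.2.2
      exact Prod.ext (hinj (by omega)) (Prod.ext (hinj (by omega)) (hinj (by omega)))
    · obtain ⟨x, hx, hu, hxe⟩ := (mem g).1 hg
      obtain ⟨a, ha, b, hb, c, hc, rfl⟩ := M.inU_eq x hx hu
      obtain ⟨a', rfl⟩ := hsur a ha
      obtain ⟨b', rfl⟩ := hsur b hb
      obtain ⟨c', rfl⟩ := hsur c hc
      exact ⟨(a', b', c'), Subtype.ext (Subtype.ext hxe)⟩
  have htoQ : ∀ p q, toQ p * toQ q = toQ (p.1 + q.1, p.2.1 + q.2.1, p.2.2 + q.2.2 + p.1 * q.2.1) := fun p q =>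
    Subtype.ext (Subtype.ext (by
      show f (pt p) * f (pt q) = f (pt _)
      simp only [pt, hadd, hmul]
      exact M.f_crd_mul (hlt _) (hlt _) (hlt _) (hlt _) (hlt _) (hlt _)))
  let c : Syl34.Crd (Q : Subgroup N) F :=
    { e := (Equiv.ofBijective toQ hbij).symm
      hF := hF
      mul := fun s t => by
        obtain ⟨p, rfl⟩ := hbij.2 s
        obtain ⟨q, rfl⟩ := hbij.2 t
        have hs : ∀ r, (Equiv.ofBijective toQ hbij).symm (toQ r) = r := fun r =>
          (Equiv.ofBijective toQ hbij).symm_apply_apply r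
        rw [htoQ, hs, hs, hs] }
  have o1 : Ok ((1, 0) : ℕ × ℕ) := ⟨by norm_num, by norm_num⟩
  have o16 : Ok ((16, 0) : ℕ × ℕ) := ⟨by norm_num, by norm_num⟩
  have hzU := (hU z).2 ⟨(16, 0), o16, by decide +kernel, M.zval⟩
  refine ⟨N, hN, Q, c, f (1, 0), hidx,
    ⟨hzU.2, c.mem_Z_of_central ((mem _).2 ⟨(16, 0), o16, by decide +kernel, M.zval⟩) fun t ht => ?_⟩,
    M.mem _ o1, ?_⟩
  · obtain ⟨x, hx, -, hxe⟩ := (mem t).1 ht
    exact Subtype.ext (show z * (t : G) = t * z from hxe ▸ (M.mem x hx).symm)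
  rintro _ ⟨g, hg, rfl⟩
  obtain ⟨hgQ, hgX⟩ := c.mem_A.1 hg
  rw [c.X_eq hgQ] at hgX
  obtain ⟨⟨px, py, pw⟩, hp⟩ := hbij.2 ⟨g, hgQ⟩
  have hcoord : c.e ⟨g, hgQ⟩ = (px, py, pw) := by
    rw [← hp]; exact (Equiv.ofBijective toQ hbij).symm_apply_apply _
  rw [hcoord] at hgX
  obtain rfl : px = 0 := hgX
  have hsw := crd_swap al _ (hlt py) _ (hlt pw)
  simp only [List.any_eq_true, List.mem_range, beq_iff_eq] at hsw
  obtain ⟨a, ha, w', hw', he⟩ := hsw
  obtain ⟨a', rfl⟩ := hsur a ha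
  obtain ⟨w'', rfl⟩ := hsur w' hw'
  refine c.mem_B.2 ?_
  have himg : (MulAut.conjNormal (f (1, 0)) : MulAut N).toMonoidHom g = (toQ (a', 0, w'') : N) := by
    refine Subtype.ext ?_
    show f (1, 0) * (g : G) * (f (1, 0))⁻¹ = f (pt (a', 0, w''))
    have hgv : (g : G) = f (pt (0, py, pw)) := (congrArg (fun u : (Q : Subgroup N) => ((u : N) : G)) hp).symm
    rw [hgv, mul_inv_eq_iff_eq_mul, M.mul _ _ o1 (hpt _).1, M.mul _ _ (hpt _).1 o1]
    simp only [pt, hb0]
    rw [he]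
  rw [himg]
  refine ⟨(toQ (a', 0, w'')).2, ?_⟩
  rw [c.Y_eq (toQ (a', 0, w'')).2]
  show ((Equiv.ofBijective toQ hbij).symm (toQ (a', 0, w''))).2.1 = 0
  rw [Equiv.ofBijective_symm_apply_apply]

end Mdl

end Cfsg.Lib.AutPGL34
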