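import Cfsg.Agent.Lib.AutPGL34.Model

/-!
# The involutions of the model
-/

set_option autoImplicit false
set_option maxRecDepth 100000
set_option maxHeartbeats 4000000

namespace Cfsg.Lib.AutPGL34

/-- The centraliser of an element in the model. -/
def centM (al be : Bool) (x : ℕ × ℕ) : List (ℕ × ℕ) :=
  allM.filter fun c => mulM al be c x == mulM al be x c

/-- The square. -/
def sqM (al be : Bool) (c : ℕ × ℕ) : ℕ × ℕ := mulM al be c c

/-- The fourth power. -/
def fthM (al be : Bool) (c : ℕ × ℕ) : ℕ × ℕ := sqM al be (sqM al be c)

/-- The test of an involution. -/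
def okInv (al be : Bool) (x : ℕ × ℕ) : Bool :=
  !(sqM al be x == (0, 0)) || x == (0, 0) ||
    let C := centM al be x
    let s2 := C.map (sqM al be)
    let s4 := s2.map (sqM al be)
    s2.contains (16, 0) &&
      if par x.1 == 0 && wpar x.2 == 0 then s4.contains (16, 0) || (C.length == 32 && s4.all (· == (0, 0)))
      else (s2.all fun t => t == (0, 0) || t == (16, 0)) ||
        (s4.contains (16, 0) && (s4.all fun t => !(sqM al be t == (0, 0)) || t == (0, 0) || t == (16, 0)) &&
          (C.length == 96 || C.length == 32))

theorem ok_ff : ∀ i < 24, ∀ v < 32, okInv false false (v, i) = true := by decide +kernel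

theorem ok_ft : ∀ i < 24, ∀ v < 32, okInv false true (v, i) = true := by decide +kernel

theorem ok_tf : ∀ i < 24, ∀ v < 32, okInv true false (v, i) = true := by decide +kernel

theorem ok_tt : ∀ i < 24, ∀ v < 32, okInv true true (v, i) = true := by decide +kernel

theorem ok_all (al be : Bool) : ∀ i < 24, ∀ v < 32, okInv al be (v, i) = true := by
  cases al <;> cases be <;> first | exact ok_ff | exact ok_ft | exact ok_tf | exact ok_tt

/-- With anticommuting disjoint transpositions the even involutions are in a four-group. -/
theorem even_be : ∀ al : Bool, ∀ i < 24, ∀ v < 32,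
    (!(sqM al true (v, i) == (0, 0) && par v == 0 && wpar i == 0) ||
      (i == 0 && (v == 0 || v == 15 || v == 16 || v == 31))) = true := by decide +kernel

/-- An element of two-power order has order at most eight. -/
theorem exponent : ∀ al be : Bool, ∀ i < 24, ∀ v < 32,
    (let c8 := fthM al be (sqM al be (v, i))
     mulM al be (mulM al be c8 c8) c8) = (0, 0) := by decide +kernel

theorem cent_fifteen : ∀ al : Bool, centM al true (31, 0) = centM al true (15, 0) := by decide +kernel

theorem roots_be : ∀ al : Bool,
    ((centM al true (15, 0)).map (sqM al true)).count (16, 0) ≠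
        ((centM al true (15, 0)).map (sqM al true)).count (15, 0) ∧
      ((centM al true (15, 0)).map (sqM al true)).count (16, 0) ≠
        ((centM al true (15, 0)).map (sqM al true)).count (31, 0) := by decide +kernel

end Cfsg.Lib.AutPGL34
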