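import Cfsg.Agent.Lib.AutPGL34.Iso
import Cfsg.Agent.Lib.AutPGL34.Facts
import Cfsg.Agent.Lib.TICyclic.Tools
import Cfsg.Agent.Lib.Invol.SylowTools
import Cfsg.Agent.Lib.Invol.Basic

/-!
# Fusion of the involutions outside the kernel of the parities
-/

set_option autoImplicit false
set_option linter.style.haveILetI false

namespace Cfsg.Lib.AutPGL34

open Subgroup

variable {G : Type*} [Group G] [Finite G] {z : G}

/-- `CH v`: the common centraliser. -/
abbrev CH (z v : G) : Subgroup G := centralizer ({z, v} : Set G)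

omit [Finite G] in
theorem mem_CH {v c : G} : c ∈ CH z v ↔ c * z = z * c ∧ c * v = v * c := by
  simp only [CH, mem_centralizer_iff, Set.mem_insert_iff, Set.mem_singleton_iff, forall_eq_or_imp, forall_eq]
  exact ⟨fun h => ⟨h.1.symm, h.2.symm⟩, fun h => ⟨h.1.symm, h.2.symm⟩⟩

theorem pow_eq_conj {a b : G} (g : G) (n : ℕ) (h : g * a * g⁻¹ = b) : g * a ^ n * g⁻¹ = b ^ n := by
  rw [← h, conj_pow]

/-- A subgroup in which `z` is recognised by a power is a Sylow subgroup of the centraliser of `v`. -/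
theorem maximal_of_root {v c : G} {n : ℕ} {R : Subgroup G} (hR : IsPGroup 2 R) (hle : R ≤ CH z v)
    (hmax : ∀ R' : Subgroup G, IsPGroup 2 R' → R ≤ R' → R' ≤ CH z v → R' = R)
    (hc : c ∈ R) (hcz : c ^ n = z) (hz : z ≠ 1) (hall : ∀ r ∈ R, r ^ n = 1 ∨ r ^ n = z)
    {R₁ : Subgroup G} (hR₁ : IsPGroup 2 R₁) (hle₁ : R ≤ R₁) (hv : R₁ ≤ centralizer ({v} : Set G)) :
    R₁ = R := by
  haveI : Fact (Nat.Prime 2) := ⟨Nat.prime_two⟩
  by_contra hne
  obtain ⟨s, hs, hsR, hnorm⟩ := Cfsg.Lib.TICyclic.exists_normalizer_notMem hR₁ hle₁ (Ne.symm hne)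
  have hsz : s * z * s⁻¹ = z := by
    have h1 := hall _ (hnorm c hc)
    rw [conj_pow, hcz] at h1
    exact h1.resolve_left fun h => hz (conj_eq_one_iff.1 h)
  have hsC : s ∈ CH z v := mem_CH.2
    ⟨mul_inv_eq_iff_eq_mul.1 hsz, mem_centralizer_singleton_iff.1 (hv hs)⟩
  have hnR : s ∈ normalizer (R : Set G) := mem_normalizer_fintype fun x hx => hnorm x hx
  have hsR' : IsPGroup 2 ↥(R ⊔ zpowers s) := IsPGroup.to_sup_of_normal_left' hR
    (hR₁.to_le (zpowers_le.2 hs)) (zpowers_le.2 hnR)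
  have h := hmax _ hsR' le_sup_left (sup_le hle (zpowers_le.2 hsC))
  exact hsR (h ▸ mem_sup_right (mem_zpowers s))

theorem exists_max {v : G} {R₀ : Subgroup G} (hR : IsPGroup 2 R₀) (hle : R₀ ≤ CH z v) :
    ∃ R : Subgroup G, R₀ ≤ R ∧ IsPGroup 2 R ∧ R ≤ CH z v ∧
      Nat.card R = 2 ^ (Nat.card (CH z v)).factorization 2 ∧
      ∀ R' : Subgroup G, IsPGroup 2 R' → R ≤ R' → R' ≤ CH z v → R' = R := by
  haveI : Fact (Nat.Prime 2) := ⟨Nat.prime_two⟩
  obtain ⟨Q, hQ⟩ := (hR.of_equiv (subgroupOfEquivOfLe hle).symm).exists_le_sylow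
  refine ⟨(Q : Subgroup (CH z v)).map (CH z v).subtype, fun x hx =>
    ⟨⟨x, hle hx⟩, hQ (show (⟨x, hle hx⟩ : CH z v) ∈ R₀.subgroupOf (CH z v) from hx), rfl⟩,
    Q.2.map _, map_subtype_le _, ?_, fun R' hR' hle' hR'C => ?_⟩
  · rw [card_map_of_injective (CH z v).subtype_injective]; exact Q.card_eq_multiplicity
  · have h1 := Q.is_maximal' (hR'.of_equiv (subgroupOfEquivOfLe hR'C).symm) fun x hx =>
      mem_subgroupOf.2 (hle' ⟨x, hx, rfl⟩)
    rw [← h1, map_subgroupOf_eq_of_le hR'C]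

/-- If `v` has an intrinsic root and `z` is a root in the target, the conjugation is done in `C(z)`. -/
theorem conj_of_root {v v' g : G} (hv : v * z = z * v) (hv' : v' * z = z * v') (hg : g * v * g⁻¹ = v')
    (hz : z ≠ 1) (hz2 : z * z = 1) {n : ℕ} (hn : ∃ k, n = 2 ^ k) (hc : ∃ c ∈ CH z v, c ^ n = z)
    (hall : ∀ R : Subgroup G, IsPGroup 2 R → R ≤ CH z v → ∀ r ∈ R, r ^ n = 1 ∨ r ^ n = z) :
    (∀ d ∈ CH z v', d ^ n = z → ∃ h, h * z = z * h ∧ h * v * h⁻¹ = v') ∧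
      (Nat.card (CH z v') = 32 → (∀ d ∈ CH z v', d ^ n = 1) →
        (Nat.card (CH z v) = 96 ∨ Nat.card (CH z v) = 32) → False) := by
  haveI : Fact (Nat.Prime 2) := ⟨Nat.prime_two⟩
  obtain ⟨c, hcC, hcz⟩ := hc
  obtain ⟨k, hk⟩ := hn
  have p2 : ∀ {d : G}, d ^ n = z → IsPGroup 2 ↥(zpowers d) := fun {d} hd => by
    have h : d ^ (2 ^ (k + 1)) = 1 := by rw [pow_succ, pow_mul, ← hk, hd, pow_two, hz2]
    obtain ⟨i, -, hi⟩ := (Nat.dvd_prime_pow Nat.prime_two).1 (orderOf_dvd_of_pow_eq_one h)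
    exact IsPGroup.of_card (n := i) (by rw [Nat.card_zpowers, hi])
  obtain ⟨R, hR0, hR, hRle, hRcard, hRmax⟩ := exists_max (v := v) (p2 hcz) (zpowers_le.2 hcC)
  have hcR : c ∈ R := hR0 (mem_zpowers c)
  have hallR := hall R hR hRle
  have hRv : R ≤ centralizer ({v} : Set G) := fun x hx =>
    mem_centralizer_singleton_iff.2 (mem_CH.1 (hRle hx)).2
  -- transport
  set R' := R.map (MulAut.conj g).toMonoidHom with hR'def
  have hR' : IsPGroup 2 R' := hR.map _
  have hR'v : R' ≤ centralizer ({v'} : Set G) := by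
    rintro _ ⟨x, hx, rfl⟩
    refine mem_centralizer_singleton_iff.2 ?_
    rw [← hg]
    show g * x * g⁻¹ * (g * v * g⁻¹) = g * v * g⁻¹ * (g * x * g⁻¹)
    have := mem_centralizer_singleton_iff.1 (hRv hx)
    rw [show g * x * g⁻¹ * (g * v * g⁻¹) = g * (x * v) * g⁻¹ by group, this]; group
  obtain ⟨R₀, -, hR₀, hR₀le, hR₀card, -⟩ := exists_max (z := z) (v := v')
    (R₀ := (⊥ : Subgroup G)) IsPGroup.of_bot bot_le
  -- a common 2-group
  have hR₀v : R₀ ≤ centralizer ({v'} : Set G) := fun x hx =>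
    mem_centralizer_singleton_iff.2 (mem_CH.1 (hR₀le hx)).2
  obtain ⟨a, ha, T, hT, hR'T, haT⟩ := Cfsg.Lib.Invol.exists_common_pGroup _ hR'v hR₀v hR' hR₀
  have hTR : R' = T ⊓ centralizer ({v'} : Set G) := by
    refine le_antisymm (le_inf hR'T hR'v) fun x hx => ?_
    set T' := (T ⊓ centralizer ({v'} : Set G)).map (MulAut.conj g⁻¹).toMonoidHom
    have hle : R ≤ T' := fun r hr => ⟨g * r * g⁻¹, mem_inf.2 ⟨hR'T ⟨r, hr, rfl⟩, hR'v ⟨r, hr, rfl⟩⟩,
      by show g⁻¹ * (g * r * g⁻¹) * g⁻¹⁻¹ = r; group⟩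
    have hT'v : T' ≤ centralizer ({v} : Set G) := by
      rintro _ ⟨y, hy, rfl⟩
      refine mem_centralizer_singleton_iff.2 ?_
      have h1 := mem_centralizer_singleton_iff.1 (mem_inf.1 hy).2
      rw [← hg] at h1
      show g⁻¹ * y * g⁻¹⁻¹ * v = v * (g⁻¹ * y * g⁻¹⁻¹)
      calc g⁻¹ * y * g⁻¹⁻¹ * v = g⁻¹ * (y * (g * v * g⁻¹)) * g := by group
        _ = _ := by rw [h1]; group
    have h2 := maximal_of_root hR hRle hRmax hcR hcz hz hallR
      ((hT.to_le inf_le_left).map _) hle hT'v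
    have h3 : g⁻¹ * x * g⁻¹⁻¹ ∈ R := h2 ▸ ⟨x, hx, rfl⟩
    exact ⟨_, h3, by show g * (g⁻¹ * x * g⁻¹⁻¹) * g⁻¹ = x; group⟩
  have hav : a * v' = v' * a := mem_centralizer_singleton_iff.1 ha
  have haR₀ : ∀ x ∈ R₀, a * x * a⁻¹ ∈ R' := fun x hx => by
    rw [hTR]
    refine mem_inf.2 ⟨haT x hx, mem_centralizer_singleton_iff.2 ?_⟩
    have hxv : Commute x v' := mem_centralizer_singleton_iff.1 (hR₀v hx)
    exact (((show Commute a v' from hav).mul_left hxv).mul_left (show Commute a v' from hav).inv_left).eq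
  refine ⟨fun d hd hdz => ?_, fun hcard hno hcardv => ?_⟩
  · -- move `d` into `R₀`
    obtain ⟨b, hb, S', hS', hdS, hbS⟩ := Cfsg.Lib.Invol.exists_common_pGroup (CH z v')
      hR₀le (zpowers_le.2 hd) hR₀ (p2 hdz)
    have hS'le : S' ⊓ CH z v' = R₀ := by
      refine le_antisymm (fun x hx => ?_) (le_inf hdS hR₀le)
      have h1 : R₀ = S' ⊓ CH z v' := by
        refine Subgroup.eq_of_le_of_card_ge (le_inf hdS hR₀le) ?_
        rw [hR₀card]
        obtain ⟨i, hi⟩ := IsPGroup.iff_card.1 (hS'.to_le (inf_le_left : S' ⊓ CH z v' ≤ S'))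
        rw [hi]
        refine Nat.pow_le_pow_right (by norm_num) ((Nat.prime_two.pow_dvd_iff_le_factorization ?_).1
          (hi ▸ card_dvd_of_le inf_le_right))
        exact Nat.card_pos.ne'
      exact h1 ▸ hx
    have hdR : b * d * b⁻¹ ∈ R₀ := hS'le ▸ mem_inf.2
      ⟨hbS d (mem_zpowers d), mul_mem (mul_mem hb hd) (inv_mem hb)⟩
    obtain ⟨r, hr, hre⟩ := haR₀ _ hdR
    have hre' : g * r * g⁻¹ = a * (b * d * b⁻¹) * a⁻¹ := hre
    have h1 : g * r ^ n * g⁻¹ = a * z * a⁻¹ := by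
      rw [pow_eq_conj g n hre', conj_pow, conj_pow, hdz]
      have : b * z * b⁻¹ = z := by rw [(mem_CH.1 hb).1, mul_inv_cancel_right]
      rw [this]
    rcases hallR r hr with h2 | h2 <;> rw [h2] at h1
    · exact absurd (conj_eq_one_iff.1 (h1.symm.trans (by group))) hz
    · refine ⟨a⁻¹ * g, ?_, ?_⟩
      · calc a⁻¹ * g * z = a⁻¹ * (g * z * g⁻¹) * g := by group
          _ = z * (a⁻¹ * g) := by rw [h1]; group
      · calc a⁻¹ * g * v * (a⁻¹ * g)⁻¹ = a⁻¹ * (g * v * g⁻¹) * a := by group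
          _ = v' := by rw [hg, mul_assoc, ← hav, inv_mul_cancel_left]
  · have h32 : Nat.card R = 32 := by
      rw [hRcard]
      rcases hcardv with h | h <;> rw [h]
      · rw [show (96 : ℕ) = 2 ^ 5 * 3 by norm_num, Nat.factorization_mul (by norm_num) (by norm_num),
          Finsupp.add_apply, Nat.Prime.factorization_pow Nat.prime_two, Finsupp.single_eq_same,
          Nat.factorization_eq_zero_of_not_dvd (by norm_num : ¬ 2 ∣ 3)]
        norm_num
      · rw [show (32 : ℕ) = 2 ^ 5 by norm_num, Nat.Prime.factorization_pow Nat.prime_two, Finsupp.single_eq_same]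
    have h32' : Nat.card R₀ = 32 := by
      rw [hR₀card, hcard, show (32 : ℕ) = 2 ^ 5 by norm_num, Nat.Prime.factorization_pow Nat.prime_two,
        Finsupp.single_eq_same]
    have heq : R₀.map (MulAut.conj a).toMonoidHom = R' := by
      refine Subgroup.eq_of_le_of_card_ge (fun _ ⟨x, hx, e⟩ => e ▸ haR₀ x hx) ?_
      rw [card_map_of_injective (K := R) (f := (MulAut.conj g).toMonoidHom) (MulAut.conj g).injective,
        card_map_of_injective (K := R₀) (f := (MulAut.conj a).toMonoidHom) (MulAut.conj a).injective, h32, h32']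
    obtain ⟨x, hx, hxe⟩ := (show g * c * g⁻¹ ∈ R₀.map (MulAut.conj a).toMonoidHom from heq ▸ ⟨c, hcR, rfl⟩)
    have hxe' : a * x * a⁻¹ = g * c * g⁻¹ := hxe
    have h1 := pow_eq_conj a n hxe'
    rw [hno x (hR₀le hx), conj_pow, hcz] at h1
    exact hz (conj_eq_one_iff.1 (h1.symm.trans (by group)))

end Cfsg.Lib.AutPGL34
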