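import Cfsg.Agent.Lib.AutPGL34.Points

/-!
# Generators of a group `2^(1+4).S₄`
-/

set_option autoImplicit false
set_option linter.style.haveILetI false

namespace Cfsg.Lib.AutPGL34

open Subgroup

/-- The permutation of a word. -/
def wPerm (i : ℕ) : Equiv.Perm (Fin 5) :=
  ((word i).map fun k => Equiv.swap (Fin.ofNat 5 k) (Fin.ofNat 5 (k + 1))).prod

theorem fix_four : ∀ σ : Equiv.Perm (Fin 5), σ 4 = 4 → ∃ i < 24, wPerm i = σ := by decide +kernel

theorem card_fix : Fintype.card {σ : Equiv.Perm (Fin 5) // σ 4 = 4} = 24 := by decide +kernel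

theorem common_fixed : ∀ y : Equiv.Perm (Fin 5), y * y * y * y = 1 → y * y ≠ 1 →
    ∀ x : Equiv.Perm (Fin 5), x * x = 1 → x * y * (x * y) * (x * y) = 1 → ∃ k, x k = k ∧ y k = k := by
  decide +kernel

theorem s4_gens : Subgroup.closure ({Equiv.swap 0 1, finRotate 4} : Set (Equiv.Perm (Fin 4))) = ⊤ ∧
    (Equiv.swap 0 1 * finRotate 4 * (Equiv.swap 0 1 * finRotate 4) * (Equiv.swap 0 1 * finRotate 4) :
      Equiv.Perm (Fin 4)) = 1 ∧
    (finRotate 4 * finRotate 4 * finRotate 4 * finRotate 4 : Equiv.Perm (Fin 4)) = 1 ∧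
    (finRotate 4 * finRotate 4 : Equiv.Perm (Fin 4)) ≠ 1 := by
  refine ⟨?_, by decide +kernel, by decide +kernel, by decide +kernel⟩
  rw [Set.pair_comm]
  have h := Equiv.Perm.closure_cycle_adjacent_swap (σ := finRotate 4) isCycle_finRotate
    (support_finRotate) 0
  simpa using h

theorem pel_word : ∀ k < 3, ∀ j < 4, ∃ a b : Fin 5, emul (pv a) (pv b) % 16 = 2 ^ j ∧
    emul (pv (Equiv.swap (Fin.ofNat 5 k) (Fin.ofNat 5 (k + 1)) a))
      (pv (Equiv.swap (Fin.ofNat 5 k) (Fin.ofNat 5 (k + 1)) b)) % 16 = 2 ^ tp k j := by decide +kernel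

theorem tp_lt : ∀ k < 3, ∀ j < 4, tp k j < 4 ∧ tp k (tp k j) = j := by decide +kernel

theorem braid_tp : ∀ k < 2, ∀ j < 4, tp (k + 1) (tp k (tp (k + 1) j)) = tp k (tp (k + 1) (tp k j)) := by
  decide +kernel

theorem disj_tp : ∀ j < 4, tp 2 (tp 0 j) = tp 0 (tp 2 j) := by decide +kernel

variable {K : Type*} [Group K] [Finite K] {E : Subgroup K} [E.Normal] {z : K}

theorem rho_range (B : Base E z) {e : ℕ → K} (q : Quad E z e) (f : (K ⧸ E) →* Equiv.Perm (Fin 4))
    (hf : Function.Bijective f) :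
    Nat.card (rho B q).range = 24 ∧ ∃ k, ∀ h, rho B q h k = k := by
  let ψ : (K ⧸ E) →* Equiv.Perm (Fin 5) := QuotientGroup.lift E (rho B q) (rho_ker B q).ge
  have hψ : Function.Injective ψ := by
    refine (injective_iff_map_eq_one _).2 fun a ha => ?_
    obtain ⟨h, rfl⟩ := QuotientGroup.mk_surjective a
    exact (QuotientGroup.eq_one_iff _).2 ((rho_ker B q) ▸ MonoidHom.mem_ker.2 ha)
  let φ := ψ.comp (MulEquiv.ofBijective f hf).symm.toMonoidHom
  have hφ : Function.Injective φ := hψ.comp (MulEquiv.ofBijective f hf).symm.injective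
  have hr : φ.range = (rho B q).range := by
    ext σ
    constructor
    · rintro ⟨π, rfl⟩
      obtain ⟨h, hh⟩ := QuotientGroup.mk_surjective ((MulEquiv.ofBijective f hf).symm π)
      exact ⟨h, by rw [MonoidHom.comp_apply]; exact (congrArg ψ hh)⟩
    · rintro ⟨h, rfl⟩
      exact ⟨f h, by
        show ψ ((MulEquiv.ofBijective f hf).symm ((MulEquiv.ofBijective f hf) (h : K ⧸ E))) = _
        rw [MulEquiv.symm_apply_apply]; rfl⟩
  refine ⟨?_, ?_⟩
  · rw [← hr, ← Nat.card_congr (MonoidHom.ofInjective hφ).toEquiv, Nat.card_perm, Nat.card_fin]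
    rfl
  · obtain ⟨hgen, h3, h4, h2⟩ := s4_gens
    obtain ⟨k, hx, hy⟩ := common_fixed (φ (finRotate 4))
      (by rw [← map_mul, ← map_mul, ← map_mul, h4, map_one])
      (fun e => h2 (hφ (by rw [map_mul, e, map_one]))) (φ (Equiv.swap 0 1))
      (by rw [← map_mul, Equiv.swap_mul_self, map_one])
      (by rw [← map_mul, ← map_mul, ← map_mul, h3, map_one])
    refine ⟨k, fun h => ?_⟩
    have hle : ⊤ ≤ (MulAction.stabilizer (Equiv.Perm (Fin 5)) k).comap φ := by
      rw [← hgen, Subgroup.closure_le]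
      rintro π (rfl | rfl) <;> simpa [MulAction.mem_stabilizer_iff]
    obtain ⟨π, hπ⟩ : rho B q h ∈ φ.range := hr ▸ ⟨h, rfl⟩
    have := hle (mem_top π)
    rw [Subgroup.mem_comap, MulAction.mem_stabilizer_iff, hπ] at this
    exact this

/-- A frame in which the fifth point is fixed. -/
theorem exists_frame (B : Base E z) {e : ℕ → K} (q : Quad E z e) (f : (K ⧸ E) →* Equiv.Perm (Fin 4))
    (hf : Function.Bijective f) :
    ∃ (e' : ℕ → K) (q' : Quad E z e'), ∀ h, rho B q' h 4 = 4 := by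
  obtain ⟨-, k, hk⟩ := rho_range B q f hf
  have R := B.cl q
  have q' : Quad E z fun j => elE z e (newV k j) := by
    refine ⟨fun j _ => elE_mem B q _, fun j hj => ?_, fun j hj i hi => ?_⟩
    · obtain ⟨hlt, hsq, -, -⟩ := newV_facts k j hj
      rw [R.elE_mul hlt hlt, hsq, elE_small.2.1]
    · obtain ⟨hlt, -, hanti, -⟩ := newV_facts k j hj
      have hlt' := (newV_facts k i (hi.trans hj)).1
      rw [R.elE_mul hlt hlt', hanti i hi, Nat.xor_comm, show (16 : ℕ) = 16 * 1 by norm_num,
        R.elE_sgn (emul_lt _ hlt' _ hlt) (by norm_num), pow_one, R.elE_mul hlt' hlt]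
  refine ⟨_, q', fun h => rho_eq B q' ?_⟩
  obtain ⟨-, -, -, hv⟩ := newV_facts k 0 (by norm_num)
  set v := (eList 15).foldl (fun a i => emul a (newV k i)) 0 with hvdef
  have hfold : ∀ (L : List ℕ), (∀ j ∈ L, j < 4) → ∀ a < 32,
      elE z e a * (L.map fun j => elE z e (newV k j)).prod = elE z e (L.foldl (fun a i => emul a (newV k i)) a) ∧
        L.foldl (fun a i => emul a (newV k i)) a < 32 := by
    intro L
    induction L with
    | nil => intro _ a ha; simpa using ha
    | cons j L ih =>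
      intro hL a ha
      have hlt := (newV_facts k j (hL j (List.mem_cons_self ..))).1
      obtain ⟨h1, h2⟩ := ih (fun i hi => hL i (List.mem_cons_of_mem _ hi)) _ (emul_lt a ha _ hlt)
      rw [List.map_cons, List.prod_cons, ← mul_assoc, R.elE_mul ha hlt, h1]
      exact ⟨rfl, h2⟩
  obtain ⟨hP, hvlt⟩ := hfold (eList 15) (fun j hj => List.mem_range.1 (List.mem_filter.1 hj).1) 0 (by norm_num)
  rw [elE_small.1, one_mul] at hP
  have hp : pel z (fun j => elE z e (newV k j)) 4 = pel z e k ∨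
      pel z (fun j => elE z e (newV k j)) 4 = z * pel z e k := by
    rw [pel, show pv 4 = 15 from rfl, elE, show 15 / 16 % 2 = 0 from rfl, pow_zero, one_mul, hP, pel]
    have h16 := (pv_lt k).1
    rw [← hvdef]
    rcases (show v = pv k ∨ v = pv k + 16 by omega) with e1 | e1
    · exact Or.inl (by rw [e1])
    · refine Or.inr ?_
      have : pv k + 16 = pv k ^^^ (16 * 1) := by
        revert h16; generalize pv k = w; intro hw; interval_cases w <;> rfl
      rw [e1, this, R.elE_sgn (by omega) (by norm_num), pow_one]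
  have hfix : MapsTo' z e h k k := by
    have := rho_spec B q h k
    rwa [hk] at this
  have hgz : ∀ x, h * (z * x) * h⁻¹ = z * (h * x * h⁻¹) := fun x => by
    rw [← mul_assoc, B.zc h]; simp only [mul_assoc]
  have hzz : ∀ x, z * (z * x) = x := fun x => by rw [← mul_assoc, B.zsq, one_mul]
  unfold MapsTo' at hfix ⊢
  rcases hp with hp | hp <;> rw [hp]
  · exact hfix
  · rw [hgz, hzz]
    exact hfix.imp (fun a => by rw [a]) fun a => by rw [a, hzz]

/-- `x` sends `e j` to `z ^ b * e (π j)`. -/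
def Acts (z : K) (e : ℕ → K) (x : K) (π : ℕ → ℕ) (b : Bool) : Prop :=
  ∀ j < 4, x * e j * x⁻¹ = zp z b * e (π j)

theorem Acts.mul (B : Base E z) {e : ℕ → K} {x y : K} {π ρ : ℕ → ℕ} {a b : Bool} (hx : Acts z e x π a)
    (hy : Acts z e y ρ b) (hρ : ∀ j < 4, ρ j < 4) : Acts z e (x * y) (fun j => π (ρ j)) (xor a b) := by
  intro j hj
  have h : x * y * e j * (x * y)⁻¹ = x * (y * e j * y⁻¹) * x⁻¹ := by group
  rw [h, hy j hj]
  have hcz : ∀ (c : Bool) (w : K), x * (zp z c * w) * x⁻¹ = zp z c * (x * w * x⁻¹) := fun c w => by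
    cases c
    · simp [zp]
    · simp only [zp, if_true]; rw [← mul_assoc, B.zc x]; simp only [mul_assoc]
  rw [hcz, hx _ (hρ j hj), ← mul_assoc]
  congr 1
  cases a <;> cases b <;> simp [zp, B.zsq]

theorem Acts.zmul (B : Base E z) {e : ℕ → K} {x : K} {π : ℕ → ℕ} {a : Bool} (hx : Acts z e x π a)
    (c : Bool) : Acts z e (zp z c * x) π a := by
  intro j hj
  have hc : ∀ w, zp z c * w * (zp z c)⁻¹ = w := fun w => by
    cases c
    · simp [zp]
    · simp only [zp, if_true]; rw [← B.zc w, mul_inv_cancel_right]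
  rw [show zp z c * x * e j * (zp z c * x)⁻¹ = zp z c * (x * e j * x⁻¹) * (zp z c)⁻¹ by group, hc]
  exact hx j hj

/-- Elements with the same action differ by a power of `z`. -/
theorem acts_eq (B : Base E z) {e : ℕ → K} (q : Quad E z e) {x y : K} {π : ℕ → ℕ} {b : Bool}
    (hx : Acts z e x π b) (hy : Acts z e y π b) : ∃ c : Bool, x = zp z c * y := by
  have hj : ∀ j < 4, Commute (y⁻¹ * x) (e j) := fun j hj => by
    show y⁻¹ * x * e j = e j * (y⁻¹ * x)
    calc y⁻¹ * x * e j = y⁻¹ * (x * e j * x⁻¹) * x := by group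
      _ = y⁻¹ * (y * e j * y⁻¹) * x := by rw [hx j hj, hy j hj]
      _ = _ := by group
  have hc : y⁻¹ * x ∈ centralizer (E : Set K) := mem_centralizer_iff.2 fun w hw => by
    obtain ⟨v, -, rfl⟩ := elE_surj B q hw
    refine Eq.symm (((show Commute (y⁻¹ * x) z from B.zc _).pow_right _).mul_right ?_)
    exact Commute.list_prod_right _ _ fun w hw => by
      obtain ⟨j, hj', rfl⟩ := List.mem_map.1 hw
      exact hj j (List.mem_range.1 (List.mem_filter.1 hj').1)
  obtain ⟨v, hv, hve⟩ := elE_surj B q (B.cent hc)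
  have h16 : v % 16 = 0 := by
    by_contra hne
    obtain ⟨j, hj4, hm⟩ := moved v hv hne
    have R := B.cl q
    have hp : 2 ^ j < 32 := by interval_cases j <;> norm_num
    have h1 := R.elE_mul hp hv
    rw [hm, Nat.xor_comm, show (16 : ℕ) = 16 * 1 by norm_num, R.elE_sgn (emul_lt v hv _ hp) (by norm_num),
      ← R.elE_mul hv hp, hve, elE_small.2.2 j hj4, pow_one, (hj j hj4).eq] at h1
    exact B.zne (mul_eq_right.1 h1.symm)
  obtain rfl | rfl : v = 0 ∨ v = 16 := by omega
  · rw [elE_small.1] at hve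
    exact ⟨false, by simp only [zp, Bool.false_eq_true, if_false, one_mul]; exact (inv_mul_eq_one.1 hve.symm).symm⟩
  · rw [elE_small.2.1] at hve
    exact ⟨true, by simp only [zp, if_true]; rw [← B.zc y, hve, mul_inv_cancel_left]⟩

theorem exists_swap (B : Base E z) {e : ℕ → K} (q : Quad E z e) (f : (K ⧸ E) →* Equiv.Perm (Fin 4))
    (hf : Function.Bijective f) (h4 : ∀ h, rho B q h 4 = 4) {k : ℕ} (hk : k < 3) :
    ∃ s, Acts z e s (tp k) true ∧ rho B q s = Equiv.swap (Fin.ofNat 5 k) (Fin.ofNat 5 (k + 1)) := by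
  classical
  set σ := Equiv.swap (Fin.ofNat 5 k) (Fin.ofNat 5 (k + 1)) with hσ
  obtain ⟨h, hh⟩ : σ ∈ (rho B q).range := by
    let S : Subgroup (Equiv.Perm (Fin 5)) := MulAction.stabilizer (Equiv.Perm (Fin 5)) (4 : Fin 5)
    have hle : (rho B q).range ≤ S := by rintro _ ⟨g, rfl⟩; exact h4 g
    have hS : Nat.card S = 24 := by
      rw [Nat.card_eq_fintype_card, ← card_fix]
      exact Fintype.card_congr (Equiv.subtypeEquivRight fun σ => MulAction.mem_stabilizer_iff)
    have heq : (rho B q).range = S := Subgroup.eq_of_le_of_card_ge hle (by rw [hS, (rho_range B q f hf).1])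
    rw [heq]
    show σ 4 = 4
    rw [hσ]; interval_cases k <;> decide
  have R := B.cl q
  have hzz : ∀ x, z * (z * x) = x := fun x => by rw [← mul_assoc, B.zsq, one_mul]
  have hmz : ∀ a x : K, a * (z * x) = z * (a * x) := fun a x => by rw [← mul_assoc, B.zc, mul_assoc]
  have hsig : ∀ j < 4, h * e j * h⁻¹ = e (tp k j) ∨ h * e j * h⁻¹ = z * e (tp k j) := by
    intro j hj
    obtain ⟨a, b, hab, hab'⟩ := pel_word k hk j hj
    have key : ∀ (a b : Fin 5) (i : ℕ), i < 4 → emul (pv a) (pv b) % 16 = 2 ^ i →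
        e i = pel z e a * pel z e b ∨ e i = z * (pel z e a * pel z e b) := by
      intro a b i hi hmod
      have ha := (pv_lt a).1; have hb := (pv_lt b).1
      have hlt := emul_lt (pv a) (by omega) (pv b) (by omega)
      rw [pel, pel, R.elE_mul (by omega) (by omega)]
      rcases (show emul (pv a) (pv b) = 2 ^ i ∨ emul (pv a) (pv b) = 2 ^ i + 16 by omega) with h' | h'
      · exact Or.inl (by rw [h', elE_small.2.2 i hi])
      · refine Or.inr ?_
        rw [h', show 2 ^ i + 16 = 2 ^ i ^^^ (16 * 1) by interval_cases i <;> rfl,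
          R.elE_sgn (by interval_cases i <;> norm_num) (by norm_num), elE_small.2.2 i hi, pow_one, hzz]
    have h1 := rho_spec B q h a; have h2 := rho_spec B q h b
    rw [hh] at h1 h2
    have hprod : h * (pel z e a * pel z e b) * h⁻¹ = h * pel z e a * h⁻¹ * (h * pel z e b * h⁻¹) := by group
    have himg : ∃ c : Bool, h * (pel z e a * pel z e b) * h⁻¹ = zp z c * (pel z e (σ a) * pel z e (σ b)) := by
      rw [hprod]
      rcases h1 with h1 | h1 <;> rcases h2 with h2 | h2 <;> rw [h1, h2]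
      · exact ⟨false, by simp [zp]⟩
      · exact ⟨true, by simp [zp, hmz]⟩
      · exact ⟨true, by simp [zp, mul_assoc]⟩
      · exact ⟨false, by simp [zp, mul_assoc, hmz, hzz]⟩
    obtain ⟨c, hc⟩ := himg
    have hgz : ∀ x, h * (z * x) * h⁻¹ = z * (h * x * h⁻¹) := fun x => by
      rw [← mul_assoc, B.zc h]; simp only [mul_assoc]
    rcases key a b j hj hab with e1 | e1 <;> rcases key (σ a) (σ b) (tp k j) (tp_lt k hk j hj).1 hab' with e2 | e2 <;>
      rw [e1, e2] <;> cases c <;> simp [zp] at hc <;> simp [hgz, hc, hzz]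
  let χ : ℕ := (if h * e 0 * h⁻¹ = e (tp k 0) then 2 ^ tp k 0 else 0) +
    (if h * e 1 * h⁻¹ = e (tp k 1) then 2 ^ tp k 1 else 0) +
    (if h * e 2 * h⁻¹ = e (tp k 2) then 2 ^ tp k 2 else 0) +
    (if h * e 3 * h⁻¹ = e (tp k 3) then 2 ^ tp k 3 else 0)
  have hχ : χ < 16 := by
    simp only [χ]; interval_cases k <;> simp [tp] <;> split_ifs <;> norm_num
  obtain ⟨u, hu, hue⟩ := inner_sign χ hχ
  refine ⟨elE z e u * h, fun j hj => ?_, ?_⟩
  · have hi := (tp_lt k hk j hj).1
    have hb : χ / 2 ^ tp k j % 2 = if h * e j * h⁻¹ = e (tp k j) then 1 else 0 := by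
      simp only [χ]; interval_cases k <;> interval_cases j <;> simp [tp] <;> split_ifs <;> norm_num
    have hp : 2 ^ tp k j < 32 := by interval_cases (tp k j) <;> norm_num
    have h1 := R.elE_mul hu hp
    rw [hue _ hi, Nat.xor_comm, R.elE_sgn (emul_lt _ hp u hu) (Nat.mod_lt _ (by norm_num)),
      ← R.elE_mul hp hu, elE_small.2.2 _ hi, hb] at h1
    rw [show elE z e u * h * e j * (elE z e u * h)⁻¹ = elE z e u * (h * e j * h⁻¹) * (elE z e u)⁻¹ by group,
      mul_inv_eq_iff_eq_mul]
    split_ifs at h1 with hc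
    · rw [hc, h1]; simp [zp, mul_assoc]
    · rw [(hsig j hj).resolve_left hc, hmz, h1]; simp [zp, mul_assoc]
  · have hu' : rho B q (elE z e u) = 1 :=
      MonoidHom.mem_ker.1 ((rho_ker B q).symm ▸ elE_mem B q u)
    rw [map_mul, hu', one_mul, hh]

/-- The generators. -/
theorem exists_rels (B : Base E z) {e : ℕ → K} (q : Quad E z e) (f : (K ⧸ E) →* Equiv.Perm (Fin 4))
    (hf : Function.Bijective f) (h4 : ∀ h, rho B q h 4 = 4) :
    ∃ (al be : Bool) (s : ℕ → K), Rels z al be e s ∧
      ∀ k < 3, rho B q (s k) = Equiv.swap (Fin.ofNat 5 k) (Fin.ofNat 5 (k + 1)) := by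
  obtain ⟨s0, a0, p0⟩ := exists_swap B q f hf h4 (k := 0) (by norm_num)
  obtain ⟨t1, a1, p1⟩ := exists_swap B q f hf h4 (k := 1) (by norm_num)
  obtain ⟨t2, a2, p2⟩ := exists_swap B q f hf h4 (k := 2) (by norm_num)
  have hT := fun k hk j hj => (tp_lt k hk j hj).1
  have rz : ∀ c : Bool, rho B q (zp z c) = 1 := fun c => MonoidHom.mem_ker.1 ((rho_ker B q).symm ▸ (by
    cases c
    · exact one_mem _
    · exact B.zmem))
  have zc' : ∀ (c : Bool) (x : K), x * zp z c = zp z c * x := fun c x => by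
    cases c
    · simp [zp]
    · simpa [zp] using B.zc x
  have z2 : ∀ (c : Bool) (x : K), zp z c * (zp z c * x) = x := fun c x => by
    cases c <;> simp [zp, ← mul_assoc, B.zsq]
  have zm : ∀ (c : Bool) (x y : K), x * (zp z c * y) = zp z c * (x * y) := fun c x y => by
    rw [← mul_assoc, zc', mul_assoc]
  -- the squares
  have sq : ∀ k < 3, ∀ x, Acts z e x (tp k) true → ∃ c : Bool, x * x = zp z c := by
    intro k hk x hx
    have h1 : Acts z e 1 (fun j => tp k (tp k j)) (xor true true) := fun j hj => by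
      simp [zp, (tp_lt k hk j hj).2]
    obtain ⟨c, hc⟩ := acts_eq B q (hx.mul B hx (hT k hk)) h1
    exact ⟨c, by rw [hc, mul_one]⟩
  have samesq : ∀ k < 2, ∀ x y, Acts z e x (tp k) true → Acts z e y (tp (k + 1)) true → x * x = y * y := by
    intro k hk x y hx hy
    -- `(x y) x (x y)⁻¹` and `y` act the same way
    obtain ⟨cx, hcx⟩ := sq k (by omega) x hx
    obtain ⟨cy, hcy⟩ := sq (k + 1) (by omega) y hy
    have l := (hx.mul B hy (hT (k + 1) (by omega))).mul B hx (hT k (by omega))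
    have r := (hy.mul B hx (hT k (by omega))).mul B hy (hT (k + 1) (by omega))
    have r' : Acts z e (y * x * y) (fun j => tp k (tp (k + 1) (tp k j))) (xor (xor true true) true) := by
      intro j hj; rw [r j hj]; congr 2; exact braid_tp k hk j hj
    obtain ⟨c, hc⟩ := acts_eq B q l r'
    have hconj : (x * y) * x * (x * y)⁻¹ = zp z c * y := by
      rw [mul_inv_eq_iff_eq_mul, hc]
      simp only [mul_assoc]
    have hsq : (x * y) * (x * x) * (x * y)⁻¹ = y * y := by
      rw [show (x * y) * (x * x) * (x * y)⁻¹ = (x * y) * x * (x * y)⁻¹ * ((x * y) * x * (x * y)⁻¹) by group,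
        hconj, mul_assoc, zm, z2]
    rw [← hsq, hcx, zc', mul_inv_cancel_right]
  obtain ⟨al, hal⟩ := sq 0 (by norm_num) s0 a0
  -- normalise the second and the third
  have norm : ∀ k < 2, ∀ x y, Acts z e x (tp k) true → Acts z e y (tp (k + 1)) true →
      ∃ c : Bool, (zp z c * y) * (x * (zp z c * y)) = zp z al * (x * ((zp z c * y) * x)) := by
    intro k hk x y hx hy
    have l := (hy.mul B hx (hT k (by omega))).mul B hy (hT (k + 1) (by omega))
    have r := (hx.mul B hy (hT (k + 1) (by omega))).mul B hx (hT k (by omega))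
    have r' : Acts z e (x * y * x) (fun j => tp (k + 1) (tp k (tp (k + 1) j))) (xor (xor true true) true) := by
      intro j hj; rw [r j hj]; congr 2; exact (braid_tp k hk j hj).symm
    obtain ⟨c, hc⟩ := acts_eq B q l r'
    refine ⟨xor c al, ?_⟩
    have h1 : y * (x * y) = zp z c * (x * (y * x)) := by simpa [mul_assoc] using hc
    have e1 : ∀ w : K, (zp z (xor c al) * y) * (x * (zp z (xor c al) * w)) = y * (x * w) := fun w => by
      rw [mul_assoc, zm _ x w, zm _ y, z2]
    rw [e1, h1, mul_assoc (zp z (xor c al)) y x, zm (xor c al) x (y * x),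
      ← mul_assoc (zp z al) (zp z (xor c al))]
    congr 1
    cases c <;> cases al <;> simp [zp, B.zsq]
  obtain ⟨c1, hc1⟩ := norm 0 (by norm_num) s0 t1 a0 a1
  set s1 := zp z c1 * t1 with hs1
  obtain ⟨c2, hc2⟩ := norm 1 (by norm_num) s1 t2 (a1.zmul B c1) a2
  set s2 := zp z c2 * t2 with hs2
  have b0 := a0; have b1 := a1.zmul B c1; have b2 := a2.zmul B c2
  rw [← hs1] at b1; rw [← hs2] at b2
  obtain ⟨be, hbe⟩ : ∃ be : Bool, s2 * s0 = zp z be * (s0 * s2) := by
    refine acts_eq B q (b2.mul B b0 (hT 0 (by norm_num))) ?_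
    intro j hj
    rw [(b0.mul B b2 (hT 2 (by norm_num))) j hj]
    congr 2
    exact (disj_tp j hj).symm
  refine ⟨al, be, fun k => if k = 0 then s0 else if k = 1 then s1 else s2,
    ⟨⟨B.zsq, B.zc, q.esq, q.anti⟩, ?_, ?_, ?_, by simpa using hbe⟩, ?_⟩
  · intro k hk
    have h01 := samesq 0 (by norm_num) s0 s1 b0 b1
    have h12 := samesq 1 (by norm_num) s1 s2 b1 b2
    interval_cases k
    · simpa using hal
    · simpa using (h01.symm.trans hal)
    · simpa using ((h01.trans h12).symm.trans hal)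
  · intro k hk j hj
    have hb : Acts z e ((fun k => if k = 0 then s0 else if k = 1 then s1 else s2) k) (tp k) true := by
      interval_cases k <;> simpa
    have h := hb j hj
    rw [mul_inv_eq_iff_eq_mul] at h
    simpa [zp, mul_assoc] using h
  · intro k hk
    interval_cases k
    · simpa using hc1
    · simpa using hc2
  · intro k hk
    interval_cases k
    · simpa using p0
    · simp [hs1, map_mul, rz, p1]
    · simp [hs2, map_mul, rz, p2]

end Cfsg.Lib.AutPGL34
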