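import Cfsg.Agent.Lib.Syl34.Main
import Cfsg.Agent.Lib.CompositeOrder.LThreeFourTop
import Cfsg.Agent.Lib.Dickson.Solvable

/-!
# The group is the automorphism group of `L₃(4)`
-/

set_option autoImplicit false
set_option linter.style.haveILetI false

namespace Cfsg.Lib.AutPGL34

open Subgroup Cfsg Cfsg.Lib

universe u

variable {G : Type u} [Group G] [Finite G] {F : Type*} [Field F] [Fintype F]

/-- Two orders of `PSL₃(4)` related groups. -/
theorem card_aut_psl34 (hF : Fintype.card F = 4) :
    Nat.card (MulAut (Matrix.ProjectiveSpecialLinearGroup (Fin 3) F)) = 241920 := by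
  haveI : Fact (Nat.Prime 2) := ⟨Nat.prime_two⟩
  letI : Fintype (GaloisField 2 2) := Fintype.ofFinite _
  have hK : Fintype.card (GaloisField 2 2) = 4 := by
    rw [← Nat.card_eq_fintype_card, GaloisField.card 2 2 (by norm_num)]; rfl
  have hP : Nat.card (Matrix.ProjectiveSpecialLinearGroup (Fin 3) F) = 20160 :=
    (Nat.card_congr (Linear.Mitchell.Sub3.pslCongr 3
      (FiniteField.ringEquivOfCardEq (hF.trans hK.symm))).toEquiv).trans (CIT.card_psl_three_four hK)
  rw [Cfsg.Agent.S0813.result (F := F) 2 2 (by norm_num) (by rw [hF]; norm_num) 3 (by norm_num) (by norm_num),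
    Cfsg.Lib.Linear.card_PGL_eq_card_SL, Cfsg.Lib.Linear.card_SL_eq_gcd_mul_card_PSL,
    hP, hF]
  rfl

/-- The unique-Sylow obstruction: `z` then has at most three conjugates. -/
theorem solvable_of_Z {N : Subgroup G} [N.Normal] {Q : Sylow 2 N} (c : Syl34.Crd (Q : Subgroup N) F)
    (hQn : (Q : Subgroup N).Normal) {z : G} (hz : z ∈ N) (hzZ : (⟨z, hz⟩ : N) ∈ c.Z)
    (hH : Group.IsSolvable ↥(centralizer ({z} : Set G))) : Group.IsSolvable G := by
  haveI : Fact (Nat.Prime 2) := ⟨Nat.prime_two⟩
  haveI := hH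
  haveI := hQn
  haveI := Q.characteristic_of_normal hQn
  haveI hQG : ((Q : Subgroup N).map N.subtype).Normal := ConjAct.normal_of_characteristic_of_normal
  set W : Subgroup G := c.Z.map N.subtype with hW
  have hWmem : ∀ x, x ∈ W ↔ x ∈ (Q : Subgroup N).map N.subtype ∧
      ∀ t ∈ (Q : Subgroup N).map N.subtype, Commute x t := by
    intro x
    constructor
    · rintro ⟨w, hw, rfl⟩
      refine ⟨⟨w, c.Z_le hw, rfl⟩, ?_⟩
      rintro _ ⟨t, ht, rfl⟩
      exact congrArg Subtype.val (c.commute_Z hw ht).eq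
    · rintro ⟨⟨w, hw, rfl⟩, hc⟩
      exact ⟨w, c.mem_Z_of_central hw fun t ht => Subtype.ext (hc _ ⟨t, ht, rfl⟩).eq, rfl⟩
  haveI hWn : W.Normal := ⟨fun x hx g => by
    obtain ⟨h1, h2⟩ := (hWmem x).1 hx
    refine (hWmem _).2 ⟨hQG.conj_mem x h1 g, fun t ht => ?_⟩
    have h3 := (Commute.conj_iff g).2 (h2 _ (hQG.conj_mem t ht g⁻¹))
    rwa [show g * (g⁻¹ * t * g⁻¹⁻¹) * g⁻¹ = t by group] at h3⟩
  let φ : G →* Equiv.Perm W :=
    MonoidHom.comp ⟨⟨fun a => a.toEquiv, rfl⟩, fun _ _ => rfl⟩ (MulAut.conjNormal (H := W))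
  have hker : φ.ker ≤ centralizer ({z} : Set G) := fun g hg => by
    have h := congrArg (fun π : Equiv.Perm W => π ⟨z, ⟨⟨z, hz⟩, hzZ, rfl⟩⟩) (MonoidHom.mem_ker.1 hg)
    exact mem_centralizer_singleton_iff.2 (mul_inv_eq_iff_eq_mul.1 (congrArg Subtype.val h))
  haveI : Group.IsSolvable (Equiv.Perm W) := by
    have h4 : Nat.card W = 4 := by rw [card_map_of_injective N.subtype_injective, c.card_Z]
    exact Cfsg.Lib.Dickson.isSolvable_congr (Equiv.permCongrHom ((Finite.equivFin W).trans (finCongr h4)))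
      Cfsg.Lib.Dickson.isSolvable_perm_four
  haveI : Group.IsSolvable φ.ker :=
    Group.isSolvable_of_isSolvable_injective (f := Subgroup.inclusion hker) (Subgroup.inclusion_injective hker)
  exact Group.isSolvable_of_ker_le_range φ.ker.subtype φ (by rw [Subgroup.range_subtype])

open Syl34 in
/-- The identification. -/
theorem aut_of_index_four (hO : oddCore G = ⊥) (hns : ¬ Group.IsSolvable G) {z : G} (hz1 : z ≠ 1)
    (hz2 : z * z = 1) (hH : Group.IsSolvable ↥(centralizer ({z} : Set G)))
    (hH768 : Nat.card (centralizer ({z} : Set G)) = 768)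
    (hTz : ∀ R : Subgroup G, R.Normal → IsPGroup 2 R → R ≠ ⊥ → z ∈ R)
    {N : Subgroup G} [N.Normal] (hidx : N.index = 4)
    {Q : Sylow 2 N} (c : Syl34.Crd (Q : Subgroup N) F) (hzN : z ∈ N)
    {h : G} (hh : h * z = z * h)
    (hzQ : (⟨z, hzN⟩ : N) ∈ c.Z)
    (hswap : c.A.map (MulAut.conjNormal h : MulAut N).toMonoidHom ≤ c.B) :
    Nonempty (G ≃* MulAut (Matrix.ProjectiveSpecialLinearGroup (Fin 3) F)) := by
  classical
  haveI : Fact (Nat.Prime 2) := ⟨Nat.prime_two⟩
  haveI : Fact (Nat.Prime 3) := ⟨Nat.prime_three⟩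
  have hON : oddCore N = ⊥ := by
    rw [← map_eq_bot_iff_of_injective _ N.subtype_injective, ← le_bot_iff, ← hO]
    refine ZStar.le_oddCore ?_ ?_
    · haveI : (oddCore N).Characteristic := inferInstance
      exact ConjAct.normal_of_characteristic_of_normal
    · rw [card_map_of_injective N.subtype_injective]; exact ZStar.odd_card_oddCore
  -- no normal 2-subgroup
  have hswap' : c.A.map (MulAut.conjNormal h : MulAut N).toMonoidHom = c.B :=
    Subgroup.eq_of_le_of_card_ge hswap (by
      rw [card_map_of_injective (K := c.A) (f := (MulAut.conjNormal h : MulAut N).toMonoidHom)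
        (MulAut.conjNormal h : MulAut N).injective, c.card_A, c.card_B])
  have hAB : c.A.Normal → False := fun hA => by
    have hB : c.B.Normal := hswap' ▸ hA.map _ (MulAut.conjNormal h : MulAut N).surjective
    have hQn : (Q : Subgroup N).Normal := by
      have he : (Q : Subgroup N) = c.A ⊔ c.B := le_antisymm (fun s hs => by
        obtain ⟨a, ha, b, hb, rfl⟩ := c.exists_mul_eq hs
        exact mul_mem_sup ha hb) (sup_le c.A_le c.B_le)
      rw [he]; exact Subgroup.sup_normal _ _
    exact hns (solvable_of_Z c hQn hzN hzQ hH)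
  have hBA : c.B.Normal → c.A.Normal := fun hB => by
    have h1 := hB.map ((MulAut.conjNormal h : MulAut N).symm).toMonoidHom
      (MulAut.conjNormal h : MulAut N).symm.surjective
    have h2 : c.B.map ((MulAut.conjNormal h : MulAut N).symm).toMonoidHom = c.A := by
      rw [← hswap', Subgroup.map_map]
      convert Subgroup.map_id c.A
      ext x; simp
    exact h2 ▸ h1
  have hAB' : c.B.Normal → False := fun hB => hAB (hBA hB)
  have hT : NoTwoCore N := fun R hR hR2 => by
    by_contra hne
    haveI := hR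
    by_cases hA : c.Norml
    · by_cases hB : c.swap.Norml
      · exact hAB (c.normal_A_of_norml hA hB hON hR2 hne)
      · exact hAB' (c.swap_A ▸ c.swap.normal_A_of_spread hB hON hR2 hne)
    · exact hAB (c.normal_A_of_spread hA hON hR2 hne)
  -- the simple normal subgroup
  obtain ⟨L, hLn, hQL, hLs, hLc, hLC, K, iK, jK, hK, ⟨e⟩⟩ : ∃ (L : Subgroup N) (_ : L.Normal)
      (_ : (Q : Subgroup N) ≤ L) (_ : IsSimpleGroup L) (_ : ¬ IsMulCommutative L),
      centralizer (L : Set N) = ⊥ ∧ ∃ (K : Type) (_ : Field K) (_ : Fintype K), Fintype.card K = 4 ∧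
        Nonempty (L ≃* Matrix.ProjectiveSpecialLinearGroup (Fin 3) K) := by
    have main : ∀ c : Syl34.Crd (Q : Subgroup N) F, ¬ c.Norml → ∃ (L : Subgroup N) (_ : L.Normal)
        (_ : (Q : Subgroup N) ≤ L) (_ : IsSimpleGroup L) (_ : ¬ IsMulCommutative L),
        centralizer (L : Set N) = ⊥ ∧ ∃ (K : Type) (_ : Field K) (_ : Fintype K), Fintype.card K = 4 ∧
          Nonempty (L ≃* Matrix.ProjectiveSpecialLinearGroup (Fin 3) K) := by
      intro c hA
      obtain ⟨T, hTn, hST, hTs, hTc, hTC⟩ := c.exists_simple hA hON hT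
      haveI := hTn
      haveI := hTs
      have hA' := c.sub_spread hST hA
      by_cases hB : (c.sub T hST).swap.Norml
      · exact ((c.sub T hST).false_of_mixed hTc hA' hB).elim
      exact ⟨T, hTn, hST, hTs, hTc, hTC, psl34_of_spread (Nat.card T) rfl hTs hTc (c.sub T hST) hA' hB⟩
    by_cases hA : c.Norml
    · by_cases hB : c.swap.Norml
      · exact (c.false_of_norml hA hB hON hT).elim
      · exact main c.swap hB
    · exact main c hA
  letI := iK
  letI := jK
  haveI := hLn
  haveI := hLs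
  have hLcard : Nat.card L = 20160 := (Nat.card_congr e.toEquiv).trans (CIT.card_psl_three_four hK)
  have hzL : (⟨z, hzN⟩ : N) ∈ L := hQL (c.Z_le hzQ)
  -- an element of order six
  have hne : L ≠ ⊤ := by
    intro htop
    obtain ⟨⟨d, hdH⟩, hd⟩ := exists_prime_orderOf_dvd_card' (G := centralizer ({z} : Set G)) 3
      (by rw [hH768]; norm_num)
    rw [Subgroup.orderOf_mk] at hd
    have hdN : d ∈ N := by
      have h1 : orderOf (QuotientGroup.mk d : G ⧸ N) ∣ 3 :=
        hd ▸ orderOf_map_dvd (QuotientGroup.mk' N) d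
      have h2 : orderOf (QuotientGroup.mk d : G ⧸ N) ∣ 4 := by
        rw [← hidx, Subgroup.index_eq_card]; exact orderOf_dvd_natCard _
      exact (QuotientGroup.eq_one_iff d).1 (orderOf_eq_one_iff.1
        (Nat.dvd_one.1 ((Nat.dvd_gcd h1 h2).trans (by norm_num))))
    have hcm : Commute (⟨d, hdN⟩ : N) ⟨z, hzN⟩ := Subtype.ext (mem_centralizer_singleton_iff.1 hdH)
    have hz' : orderOf (⟨z, hzN⟩ : N) = 2 :=
      orderOf_eq_prime (p := 2) (Subtype.ext (by simp [pow_two, hz2])) fun h => hz1 (congrArg Subtype.val h)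
    have h6 : orderOf ((⟨d, hdN⟩ : N) * ⟨z, hzN⟩) = 6 := by
      rw [hcm.orderOf_mul_eq_mul_orderOf_of_coprime (by rw [Subgroup.orderOf_mk, hd, hz']; norm_num),
        Subgroup.orderOf_mk, hd, hz']
    let x : L := ⟨⟨d, hdN⟩ * ⟨z, hzN⟩, htop ▸ mem_top _⟩
    have hx6 : orderOf x = 6 := by rw [← Subgroup.orderOf_coe]; exact h6
    have hp := Cfsg.Lib.CompOrd.isEppo_psl34 hK e x (fun h => by rw [h, orderOf_one] at hx6; norm_num at hx6)
    rw [hx6] at hp
    obtain ⟨p, k, hp', hk, hpk⟩ := hp
    have h2 : p = 2 := (Nat.prime_dvd_prime_iff_eq hp'.nat_prime Nat.prime_two).1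
      (hp'.nat_prime.dvd_of_dvd_pow ((show 2 ∣ p ^ k by rw [hpk]; norm_num) |> fun h => by
        have h2 := (Nat.prime_two.dvd_of_dvd_pow h)
        rw [(Nat.prime_dvd_prime_iff_eq Nat.prime_two hp'.nat_prime).1 h2]
        exact dvd_pow_self _ hk.ne'))
    have h3 : (3 : ℕ) = p := (Nat.prime_dvd_prime_iff_eq Nat.prime_three hp'.nat_prime).1
      (Nat.prime_three.dvd_of_dvd_pow (show 3 ∣ p ^ k by rw [hpk]; norm_num))
    omega
  -- `L` is normal in the whole group
  set L' : Subgroup G := L.map N.subtype with hL'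
  haveI hL'n : L'.Normal := by
    refine ⟨fun x hx g => ?_⟩
    obtain ⟨y, hy, rfl⟩ := hx
    set σ : MulAut N := MulAut.conjNormal g
    set Lg := L.map σ.toMonoidHom with hLg
    haveI : Lg.Normal := hLn.map _ σ.surjective
    suffices hmem : σ y ∈ L from ⟨σ y, hmem, rfl⟩
    have hin : (Lg.subgroupOf L).Normal := inferInstance
    rcases IsSimpleGroup.eq_bot_or_eq_top_of_normal (Lg.subgroupOf L) hin with hb | ht
    · exfalso
      have hdis : ∀ x, x ∈ Lg → x ∈ L → x = 1 := fun x hx hxL => by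
        have : (⟨x, hxL⟩ : L) ∈ Lg.subgroupOf L := hx
        rw [hb, mem_bot] at this
        exact congrArg Subtype.val this
      have hle : Lg ≤ centralizer (L : Set N) := fun x hx => mem_centralizer_iff.2 fun l hl => by
        have h1 := hdis (l * x * l⁻¹ * x⁻¹) (mul_mem (Normal.conj_mem inferInstance x hx l) (inv_mem hx))
          (by rw [show l * x * l⁻¹ * x⁻¹ = l * (x * l⁻¹ * x⁻¹) by group]
              exact mul_mem hl (hLn.conj_mem _ (inv_mem hl) x))
        calc l * x = l * x * l⁻¹ * x⁻¹ * (x * l) := by group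
          _ = x * l := by rw [h1, one_mul]
      rw [hLC] at hle
      have := card_le_of_le hle
      rw [hLg, card_map_of_injective (K := L) (f := σ.toMonoidHom) σ.injective, hLcard, card_bot] at this
      omega
    · have hle : L ≤ Lg := fun x hx =>
        (show (⟨x, hx⟩ : L) ∈ Lg.subgroupOf L from ht ▸ mem_top _)
      have := Subgroup.eq_of_le_of_card_ge hle (by rw [hLg, card_map_of_injective (K := L) (f := σ.toMonoidHom) σ.injective])
      exact this ▸ ⟨y, hy, rfl⟩
  have hC : centralizer (L' : Set G) = ⊥ := by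
    haveI hn : (centralizer (L' : Set G)).Normal := inferInstance
    have hCN : centralizer (L' : Set G) ⊓ N = ⊥ := (eq_bot_iff_forall _).2 fun x hx => by
      obtain ⟨hx1, hx2⟩ := mem_inf.1 hx
      have : (⟨x, hx2⟩ : N) ∈ centralizer (L : Set N) := mem_centralizer_iff.2 fun l hl =>
        Subtype.ext (mem_centralizer_iff.1 hx1 l ⟨l, hl, rfl⟩)
      rw [hLC, mem_bot] at this
      exact congrArg Subtype.val this
    have hp : IsPGroup 2 ↥(centralizer (L' : Set G)) := fun x => ⟨2, Subtype.ext (by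
      have h1 : (x : G) ^ 4 ∈ centralizer (L' : Set G) ⊓ N :=
        mem_inf.2 ⟨pow_mem x.2 4, by rw [← hidx]; exact Subgroup.pow_index_mem N _⟩
      rw [hCN, mem_bot] at h1
      simpa using h1)⟩
    by_contra hne'
    have := mem_inf.2 ⟨hTz _ hn hp hne', hzN⟩
    rw [hCN, mem_bot] at this
    exact hz1 this
  -- the embedding
  let eL : L' ≃* Matrix.ProjectiveSpecialLinearGroup (Fin 3) F :=
    ((L.equivMapOfInjective N.subtype N.subtype_injective).symm.trans e).trans
      (Linear.Mitchell.Sub3.pslCongr 3 (FiniteField.ringEquivOfCardEq (hK.trans c.hF.symm)))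
  let φ : G →* MulAut (Matrix.ProjectiveSpecialLinearGroup (Fin 3) F) :=
    (MulAut.congr eL).toMonoidHom.comp (MulAut.conjNormal (H := L'))
  have hφ : Function.Injective φ := by
    refine (injective_iff_map_eq_one _).2 fun x hx => ?_
    have hx' : MulAut.conjNormal (H := L') x = 1 := by
      apply (MulAut.congr eL).injective
      rw [map_one]; exact hx
    have : x ∈ centralizer (L' : Set G) := by
      refine mem_centralizer_iff.2 fun a ha => ?_
      have := congrArg Subtype.val (DFunLike.congr_fun hx' ⟨a, ha⟩)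
      rw [MulAut.conjNormal_apply, MulAut.one_apply] at this
      exact (mul_inv_eq_iff_eq_mul.1 this).symm
    rwa [hC, mem_bot] at this
  have hcardG : 241920 ≤ Nat.card G := by
    have h1 := L.card_mul_index
    have h2 := N.card_mul_index
    have hodd : ¬ 2 ∣ L.index := fun hd => Q.not_dvd_index (hd.trans (index_dvd_of_le hQL))
    have hpos : 0 < L.index := Nat.pos_of_ne_zero index_ne_zero_of_finite
    have hne1 : L.index ≠ 1 := fun e => hne (index_eq_one.1 e)
    rw [hidx, ← h1, hLcard] at h2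
    have : 3 ≤ L.index := by omega
    omega
  have hle := Nat.card_le_card_of_injective φ hφ
  rw [card_aut_psl34 c.hF] at hle
  exact ⟨MulEquiv.ofBijective φ ((Nat.bijective_iff_injective_and_card φ).2
    ⟨hφ, by rw [card_aut_psl34 c.hF]; omega⟩)⟩

end Cfsg.Lib.AutPGL34
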