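import Cfsg.Agent.Lib.AutPGL34.Iso

/-!
# The Sylow subgroup of the model and the coordinates of its subgroup of order 64
-/

set_option autoImplicit false
set_option maxRecDepth 100000
set_option maxHeartbeats 4000000
set_option synthInstance.maxSize 1000
set_option synthInstance.maxHeartbeats 400000

namespace Cfsg.Lib.AutPGL34

/-- Membership in the Sylow subgroup of the model. -/
def inT (x : ℕ × ℕ) : Bool := inD x.2

/-- Membership in the subgroup of order 64. -/
def inU (x : ℕ × ℕ) : Bool := inV x.2 && par x.1 == 0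

/-- Generators of the Sylow subgroup. -/
def gensT : List (ℕ × ℕ) :=
  [(1, 0), (2, 0), (4, 0), (8, 0)] ++ ((List.range 24).filter inD).map fun i => (0, i)

theorem inD_mul : ∀ i < 24, ∀ j < 24, inD i = true → inD j = true →
    inD (ent cTab 7 (i * 24 + j) % 32) = true := by decide +kernel

theorem gensT_ok : ∀ g ∈ gensT, inT g = true ∧ g ∈ allM := by decide +kernel

theorem centre_T : ∀ al be : Bool, ∀ i < 24, ∀ v < 32,
    (!(inT (v, i) && gensT.all fun g => mulM al be g (v, i) == mulM al be (v, i) g) ||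
      (i == 0 && (v == 0 || v == 16))) = true := by decide +kernel

theorem card_T : (allM.filter inT).length = 256 := by decide +kernel

theorem inU_of : ∀ i < 24, ∀ v < 32, inD i = true → par v = 0 → wpar i = 0 → inU (v, i) = true := by
  decide +kernel

theorem inU_le : ∀ i < 24, ∀ v < 32, inU (v, i) = true → inT (v, i) = true ∧ par v = 0 ∧ wpar i = 0 := by
  decide +kernel

theorem card_U : (allM.filter inU).length = 64 := by decide +kernel

theorem crd_mem : ∀ al : Bool, ∀ x < 4, ∀ y < 4, ∀ w < 4,
    inU (crdM al x y w) = true ∧ (crdM al x y w).1 < 32 ∧ (crdM al x y w).2 < 24 := by decide +kernel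

theorem crd_inj : ∀ al : Bool, ((List.range 64).map fun p => crdM al (p / 16) (p / 4 % 4) (p % 4)).Nodup := by
  decide +kernel

theorem crd_mul : ∀ al : Bool, ∀ x < 4, ∀ y < 4, ∀ w < 4, ∀ x' < 4, ∀ y' < 4, ∀ w' < 4,
    mulM al false (crdM al x y w) (crdM al x' y' w') =
      crdM al (x ^^^ x') (y ^^^ y') ((w ^^^ w') ^^^ fmulM x y') := by decide +kernel

theorem crd_zero : ∀ al : Bool, crdM al 0 0 0 = (0, 0) := by decide +kernel

theorem crd_swap : ∀ al : Bool, ∀ y < 4, ∀ w < 4, ((List.range 4).any fun x => (List.range 4).any fun w' =>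
    mulM al false (1, 0) (crdM al 0 y w) == mulM al false (crdM al x 0 w') (1, 0)) = true := by decide +kernel

theorem outer_elements : ∀ al be : Bool,
    inT ((7, 0) : ℕ × ℕ) = true ∧ inT ((if al then 12 else 0, 1) : ℕ × ℕ) = true ∧
      mulM al be (7, 0) (7, 0) = (0, 0) ∧
      mulM al be (if al then 12 else 0, 1) (if al then 12 else 0, 1) = (0, 0) ∧
      par 7 = 1 ∧ wpar 0 = 0 ∧ par (if al then 12 else 0) = 0 ∧ wpar 1 = 1 := by decide +kernel

end Cfsg.Lib.AutPGL34
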