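import Cfsg.Agent.Lib.AutPGL34.Invols
import Cfsg.Agent.Lib.AutPGL34.UData
import Cfsg.Agent.Lib.EightThree.Tools
import Cfsg.Agent.Lib.Syl34.CentZ

/-!
# The normal subgroup of index four
-/

set_option autoImplicit false
set_option linter.style.haveILetI false

namespace Cfsg.Lib.AutPGL34

open Subgroup Cfsg Cfsg.Lib

variable {G : Type*} [Group G] [Finite G] {z : G} {al be : Bool} {f : ℕ × ℕ → G}

namespace Mdl

variable (M : Mdl z al be f)
include M

omit [Finite G] in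
theorem mul_inT {x y : ℕ × ℕ} (hx : Ok x) (hy : Ok y) (tx : inT x = true) (ty : inT y = true) :
    inT (mulM al be x y) = true := inD_mul _ hx.2 _ hy.2 tx ty

/-- The Sylow 2-subgroup of the model in `G`. -/
noncomputable def sylSub : Subgroup G where
  carrier := {g | ∃ x, Ok x ∧ inT x = true ∧ f x = g}
  one_mem' := ⟨(0, 0), ⟨by norm_num, by norm_num⟩, rfl, M.one⟩
  mul_mem' := fun ⟨x, hx, tx, ex⟩ ⟨y, hy, ty, ey⟩ =>
    ⟨mulM al be x y, mulM_ok al be hx hy, M.mul_inT hx hy tx ty, by rw [← ex, ← ey, M.mul x y hx hy]⟩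
  inv_mem' := fun {g} ⟨x, hx, tx, ex⟩ => by
    have hpow : ∀ n : ℕ, ∃ y, Ok y ∧ inT y = true ∧ f y = g ^ n := by
      intro n
      induction n with
      | zero => exact ⟨(0, 0), ⟨by norm_num, by norm_num⟩, rfl, by rw [M.one, pow_zero]⟩
      | succ n ih =>
        obtain ⟨y, hy, ty, ey⟩ := ih
        exact ⟨mulM al be y x, mulM_ok al be hy hx, M.mul_inT hy hx ty tx,
          by rw [← M.mul y x hy hx, ey, ex, pow_succ]⟩
    obtain ⟨y, hy, ty, ey⟩ := hpow (orderOf g - 1)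
    refine ⟨y, hy, ty, ey.trans (eq_inv_of_mul_eq_one_left ?_)⟩
    rw [← pow_succ, Nat.sub_add_cancel (orderOf_pos g), pow_orderOf_eq_one]

omit [Finite G] in
/-- The counting of a subset of the model. -/
theorem card_list (p : ℕ × ℕ → Bool) :
    Nat.card {g : G // ∃ x, Ok x ∧ p x = true ∧ f x = g} = (allM.filter p).length := by
  classical
  rw [← List.toFinset_card_of_nodup (allM_nodup.filter p), ← Nat.card_eq_finsetCard]
  refine (Nat.card_eq_of_bijective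
    (fun c : (allM.filter p).toFinset => (⟨f c, c, ?_, ?_, rfl⟩ : {g : G // ∃ x, Ok x ∧ p x = true ∧ f x = g}))
    ⟨fun a b h => ?_, ?_⟩).symm
  · exact ok_iff.2 (List.mem_filter.1 (List.mem_toFinset.1 c.2)).1
  · exact (List.mem_filter.1 (List.mem_toFinset.1 c.2)).2
  · exact Subtype.ext (M.inj _ _ (ok_iff.2 (List.mem_filter.1 (List.mem_toFinset.1 a.2)).1)
      (ok_iff.2 (List.mem_filter.1 (List.mem_toFinset.1 b.2)).1) (congrArg Subtype.val h))
  · rintro ⟨g, x, hx, hp, rfl⟩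
    exact ⟨⟨x, List.mem_toFinset.2 (List.mem_filter.2 ⟨ok_iff.1 hx, hp⟩)⟩, rfl⟩

theorem card_sylSub : Nat.card M.sylSub = 256 := (M.card_list inT).trans card_T

theorem card_cent : Nat.card (centralizer ({z} : Set G)) = 768 := by
  have h1 := M.card_list fun _ => true
  rw [show (allM.filter fun _ => true).length = 768 by decide +kernel] at h1
  rw [← h1]
  refine Nat.card_congr (Equiv.subtypeEquivRight fun g => ?_)
  rw [mem_centralizer_singleton_iff]
  exact ⟨fun h => by obtain ⟨x, hx, e⟩ := M.surj g h; exact ⟨x, hx, rfl, e⟩,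
    fun ⟨x, hx, _, e⟩ => e ▸ M.mem x hx⟩

theorem mem_centre_sylSub {g : G} (hg : g ∈ M.sylSub) (hc : ∀ t ∈ M.sylSub, Commute g t) : g = 1 ∨ g = z := by
  obtain ⟨⟨v, i⟩, ⟨hv, hi⟩, tx, rfl⟩ := hg
  have hall : (gensT.all fun u => mulM al be u (v, i) == mulM al be (v, i) u) = true := by
    rw [List.all_eq_true]
    intro u hu
    obtain ⟨tu, hu'⟩ := gensT_ok u hu
    have hok := ok_iff.2 hu'
    have h := (hc (f u) ⟨u, hok, tu, rfl⟩).eq
    rw [M.mul _ u ⟨hv, hi⟩ hok, M.mul u _ hok ⟨hv, hi⟩] at h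
    exact beq_iff_eq.2 (M.inj _ _ (mulM_ok al be ⟨hv, hi⟩ hok) (mulM_ok al be hok ⟨hv, hi⟩) h).symm
  have h := centre_T al be i hi v hv
  simp only [tx, hall, Bool.and_self, Bool.not_true, Bool.false_or, Bool.and_eq_true, Bool.or_eq_true,
    beq_iff_eq] at h
  obtain ⟨rfl, rfl | rfl⟩ := h
  · exact Or.inl M.one
  · exact Or.inr M.zval

/-- The Sylow 2-subgroup. -/
theorem exists_sylow : ∃ P : Sylow 2 G, (P : Subgroup G) = M.sylSub := by
  haveI : Fact (Nat.Prime 2) := ⟨Nat.prime_two⟩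
  have hp : IsPGroup 2 M.sylSub := IsPGroup.of_card (n := 8) (by rw [M.card_sylSub]; norm_num)
  obtain ⟨P, hP⟩ := hp.exists_le_sylow
  refine ⟨P, ?_⟩
  by_contra hne
  obtain ⟨s, hs, hsT, hnorm⟩ := Cfsg.Lib.TICyclic.exists_normalizer_notMem P.2 hP (Ne.symm hne)
  have hzT : z ∈ M.sylSub := ⟨(16, 0), ⟨by norm_num, by norm_num⟩, rfl, M.zval⟩
  have hcent : ∀ t ∈ M.sylSub, Commute (s * z * s⁻¹) t := by
    intro t ht
    have hnR : s ∈ normalizer (M.sylSub : Set G) := mem_normalizer_fintype fun x hx => hnorm x hx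
    obtain ⟨x, hx, -, hxe⟩ := (mem_normalizer_iff''.1 hnR t).1 ht
    have h0 : Commute z (s⁻¹ * t * s) := hxe ▸ (M.mem x hx).symm
    have h2 := (Commute.conj_iff s).2 h0
    rwa [show s * (s⁻¹ * t * s) * s⁻¹ = t by group] at h2
  have hsz : s * z * s⁻¹ = z :=
    (M.mem_centre_sylSub (hnorm z hzT) hcent).resolve_left fun h => M.zne (conj_eq_one_iff.1 h)
  have hle : M.sylSub ⊔ zpowers s ≤ centralizer ({z} : Set G) :=
    sup_le (fun g ⟨x, hx, _, e⟩ => mem_centralizer_singleton_iff.2 (e ▸ M.mem x hx))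
      (zpowers_le.2 (mem_centralizer_singleton_iff.2 (mul_inv_eq_iff_eq_mul.1 hsz)))
  have hS : IsPGroup 2 ↥(M.sylSub ⊔ zpowers s) := P.2.to_le (sup_le hP (zpowers_le.2 hs))
  obtain ⟨k, hk⟩ := IsPGroup.iff_card.1 hS
  have h768 := card_dvd_of_le hle
  rw [M.card_cent, hk] at h768
  have hk8 : k ≤ 8 := by
    by_contra hlt
    exact absurd ((pow_dvd_pow 2 (not_le.1 hlt)).trans h768) (by norm_num)
  have heq : M.sylSub = M.sylSub ⊔ zpowers s := Subgroup.eq_of_le_of_card_ge le_sup_left (by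
    rw [hk, M.card_sylSub]; exact (Nat.pow_le_pow_right (by norm_num) hk8).trans (by norm_num))
  exact hsT (heq ▸ mem_sup_right (mem_zpowers s))

open scoped Classical in
/-- A parity as a character of the Sylow subgroup. -/
noncomputable def parChar (p : ℕ × ℕ → ℕ) (hp : ∀ x, p x < 2)
    (hadd : ∀ x y, Ok x → Ok y → p (mulM al be x y) = (p x + p y) % 2) : M.sylSub →* ℤˣ :=
  MonoidHom.mk' (fun t => if p t.2.choose = 1 then -1 else 1) fun a b => by
    obtain ⟨ha, -, ea⟩ := a.2.choose_spec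
    obtain ⟨hb, -, eb⟩ := b.2.choose_spec
    obtain ⟨hab, -, eab⟩ := (a * b).2.choose_spec
    have h : (a * b).2.choose = mulM al be a.2.choose b.2.choose := by
      refine M.inj _ _ hab (mulM_ok al be ha hb) ?_
      rw [eab, ← M.mul _ _ ha hb, ea, eb]; rfl
    show (if p (a * b).2.choose = 1 then (-1 : ℤˣ) else 1) = _
    rw [h, hadd _ _ ha hb]
    have := hp a.2.choose; have := hp b.2.choose
    generalize p a.2.choose = i at *
    generalize p b.2.choose = j at *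
    interval_cases i <;> interval_cases j <;> simp

theorem parChar_apply {p : ℕ × ℕ → ℕ} (hp : ∀ x, p x < 2)
    (hadd : ∀ x y, Ok x → Ok y → p (mulM al be x y) = (p x + p y) % 2) {x : ℕ × ℕ} (hx : Ok x)
    (hm : f x ∈ M.sylSub) : M.parChar p hp hadd ⟨f x, hm⟩ = if p x = 1 then -1 else 1 := by
  classical
  obtain ⟨hy, -, ey⟩ := (⟨f x, hm⟩ : M.sylSub).2.choose_spec
  show (if p (⟨f x, hm⟩ : M.sylSub).2.choose = 1 then (-1 : ℤˣ) else 1) = _
  rw [M.inj _ _ hy hx ey]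

/-- The transfer of a parity on an involution of the Sylow subgroup. -/
theorem transfer_par {p : ℕ × ℕ → ℕ} (hp : ∀ x, p x < 2)
    (hadd : ∀ x y, Ok x → Ok y → p (mulM al be x y) = (p x + p y) % 2)
    (hfus : ∀ x y, Ok x → Ok y → f x * f x = 1 → ∀ g : G, g * f x * g⁻¹ = f y → p x = p y)
    (P : Sylow 2 G) (hP : (P : Subgroup G) = M.sylSub) {x : ℕ × ℕ} (hx : Ok x) (h2 : f x * f x = 1) :
    MonoidHom.transfer ((M.parChar p hp hadd).comp (MulEquiv.subgroupCongr hP).toMonoidHom) (f x) =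
      if p x = 1 then -1 else 1 := by
  haveI : Fact (Nat.Prime 2) := ⟨Nat.prime_two⟩
  refine EightThree.transfer_sign P _ _ _ h2 fun g hg => ?_
  have hg' : g⁻¹ * f x * g ∈ M.sylSub := hP ▸ hg
  obtain ⟨y, hy, -, hye⟩ := id hg'
  have hfy : f y ∈ M.sylSub := hye ▸ hg'
  have e : (MulEquiv.subgroupCongr hP).toMonoidHom ⟨g⁻¹ * f x * g, hg⟩ = ⟨f y, hfy⟩ := Subtype.ext hye.symm
  rw [MonoidHom.comp_apply, e, M.parChar_apply hp hadd hy hfy, hfus x y hx hy h2 g⁻¹ (by rw [hye, inv_inv])]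

/-- A normal subgroup of index four whose Sylow subgroup is the subgroup of order 64. -/
theorem exists_index_four (P : Sylow 2 G) (hP : (P : Subgroup G) = M.sylSub)
    (hgen : ∀ x, Ok x → inU x = true → ∃ a b, Ok a ∧ Ok b ∧ inU a = true ∧ inU b = true ∧
      f a * f a = 1 ∧ f b * f b = 1 ∧ f x = f a * f b) :
    ∃ N : Subgroup G, N.Normal ∧ N.index = 4 ∧
      ∀ g, g ∈ M.sylSub ⊓ N ↔ ∃ x, Ok x ∧ inU x = true ∧ f x = g := by
  classical
  haveI : Fact (Nat.Prime 2) := ⟨Nat.prime_two⟩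
  let p₁ : ℕ × ℕ → ℕ := fun x => par x.1
  let p₂ : ℕ × ℕ → ℕ := fun x => wpar x.2
  have hp₁ : ∀ x, p₁ x < 2 := fun _ => Nat.mod_lt _ (by norm_num)
  have hp₂ : ∀ x, p₂ x < 2 := fun _ => Nat.mod_lt _ (by norm_num)
  have ha₁ : ∀ x y, Ok x → Ok y → p₁ (mulM al be x y) = (p₁ x + p₁ y) % 2 :=
    fun x y hx hy => (par_mulM al be hx hy).1
  have ha₂ : ∀ x y, Ok x → Ok y → p₂ (mulM al be x y) = (p₂ x + p₂ y) % 2 :=
    fun x y hx hy => (par_mulM al be hx hy).2
  let τ : G →* ℤˣ × ℤˣ :=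
    (MonoidHom.transfer ((M.parChar p₁ hp₁ ha₁).comp (MulEquiv.subgroupCongr hP).toMonoidHom)).prod
      (MonoidHom.transfer ((M.parChar p₂ hp₂ ha₂).comp (MulEquiv.subgroupCongr hP).toMonoidHom))
  have hτ : ∀ x, Ok x → f x * f x = 1 →
      τ (f x) = (if par x.1 = 1 then -1 else 1, if wpar x.2 = 1 then -1 else 1) := fun x hx h2 =>
    Prod.ext (M.transfer_par hp₁ ha₁ (fun a b ha hb h g hg => (M.parity_conj ha hb h hg).1) P hP hx h2)
      (M.transfer_par hp₂ ha₂ (fun a b ha hb h g hg => (M.parity_conj ha hb h hg).2) P hP hx h2)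
  obtain ⟨t7, t24, q7, q24, a, b, c, d⟩ := outer_elements al be
  have o7 : Ok ((7, 0) : ℕ × ℕ) := ⟨by norm_num, by norm_num⟩
  have o24 : Ok ((if al then 12 else 0, 1) : ℕ × ℕ) := ⟨by cases al <;> norm_num, by norm_num⟩
  have h7 := hτ _ o7 (by rw [M.sq o7, sqM, q7, M.one])
  have h24 := hτ _ o24 (by rw [M.sq o24, sqM, q24, M.one])
  simp only [a, b, c, d, if_true, show ¬ ((0 : ℕ) = 1) by norm_num, if_false] at h7 h24
  have hsurj : ∀ w : ℤˣ × ℤˣ, ∃ g ∈ M.sylSub, τ g = w := by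
    have m7 : f (7, 0) ∈ M.sylSub := ⟨_, o7, t7, rfl⟩
    have m24 : f (if al then 12 else 0, 1) ∈ M.sylSub := ⟨_, o24, t24, rfl⟩
    rintro ⟨u, v⟩
    rcases Int.units_eq_one_or u with rfl | rfl <;> rcases Int.units_eq_one_or v with rfl | rfl
    · exact ⟨1, one_mem _, map_one τ⟩
    · exact ⟨_, m24, h24⟩
    · exact ⟨_, m7, h7⟩
    · exact ⟨_, mul_mem m7 m24, by rw [map_mul, h7, h24]; rfl⟩
  have hU : ∀ x, Ok x → inU x = true → f x ∈ M.sylSub ∧ τ (f x) = 1 := by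
    intro x hx hu
    refine ⟨⟨x, hx, (inU_le _ hx.2 _ hx.1 hu).1, rfl⟩, ?_⟩
    obtain ⟨a, b, ha, hb, hua, hub, ha2, hb2, e⟩ := hgen x hx hu
    obtain ⟨-, pa, wa⟩ := inU_le _ ha.2 _ ha.1 hua
    obtain ⟨-, pb, wb⟩ := inU_le _ hb.2 _ hb.1 hub
    rw [e, map_mul, hτ a ha ha2, hτ b hb hb2, pa, wa, pb, wb]
    rfl
  refine ⟨τ.ker, inferInstance, ?_, ?_⟩
  · rw [Subgroup.index_ker, MonoidHom.range_eq_top.2 fun w => (hsurj w).imp fun g h => h.2, card_top,
      Nat.card_prod, Nat.card_eq_fintype_card]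
    rfl
  · have hσ : Function.Surjective (τ.comp M.sylSub.subtype) := fun w => by
      obtain ⟨g, hg, e⟩ := hsurj w
      exact ⟨⟨g, hg⟩, e⟩
    have hk := (τ.comp M.sylSub.subtype).ker.card_mul_index
    rw [Subgroup.index_ker, MonoidHom.range_eq_top.2 hσ, card_top, Nat.card_prod, M.card_sylSub,
      Nat.card_eq_fintype_card (α := ℤˣ), Fintype.card_units_int] at hk
    have hcard : Nat.card ↥(M.sylSub ⊓ τ.ker) = 64 := by
      have e := (subgroupOfEquivOfLe (inf_le_left : M.sylSub ⊓ τ.ker ≤ M.sylSub)).toEquiv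
      rw [← Nat.card_congr e]
      have h : (M.sylSub ⊓ τ.ker).subgroupOf M.sylSub = (τ.comp M.sylSub.subtype).ker := by
        ext g; simp [mem_subgroupOf]
      rw [h]; omega
    have hset : ({g : G | ∃ x, Ok x ∧ inU x = true ∧ f x = g} : Set G) = ↑(M.sylSub ⊓ τ.ker) := by
      refine Set.eq_of_subset_of_ncard_le ?_ ?_ (Set.toFinite _)
      · rintro _ ⟨x, hx, hu, rfl⟩
        exact ⟨(hU x hx hu).1, MonoidHom.mem_ker.2 (hU x hx hu).2⟩
      · rw [← Nat.card_coe_set_eq, ← Nat.card_coe_set_eq]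
        show Nat.card ↥(M.sylSub ⊓ τ.ker) ≤ _
        rw [hcard]
        exact le_of_eq ((M.card_list inU).trans card_U).symm
    intro g
    exact (Set.ext_iff.1 hset g).symm

end Mdl

end Cfsg.Lib.AutPGL34
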