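import Cfsg.Agent.Lib.AutPGL34.Fusion
import Cfsg.Agent.Lib.ZStar.Main

/-!
# The parities are preserved by fusion
-/

set_option autoImplicit false
set_option maxRecDepth 100000
set_option linter.style.haveILetI false

namespace Cfsg.Lib.AutPGL34

open Subgroup

theorem par_emul : ∀ v < 32, ∀ u < 32, par (emul v u) = (par v + par u) % 2 := by decide +kernel

theorem par_aAct : ∀ i < 24, ∀ u < 32, par (aAct i u) = par u := by decide +kernel

theorem par_sgn : ∀ v < 32, par (v ^^^ 16) = par v ∧ par (v ^^^ 0) = par v := by decide +kernel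

theorem wpar_cTab : ∀ i < 24, ∀ j < 24, wpar (ent cTab 7 (i * 24 + j) % 32) = (wpar i + wpar j) % 2 := by
  decide +kernel

theorem allM_nodup : allM.Nodup := by decide +kernel

theorem par_mulM (al be : Bool) {x y : ℕ × ℕ} (hx : Ok x) (hy : Ok y) :
    par (mulM al be x y).1 = (par x.1 + par y.1) % 2 ∧ wpar (mulM al be x y).2 = (wpar x.2 + wpar y.2) % 2 := by
  have hA := (aAct_word _ hx.2 _ hy.1).2
  refine ⟨?_, wpar_cTab _ hx.2 _ hy.2⟩
  show par (emul x.1 (aAct x.2 y.1) ^^^ (16 * sgnOf al be (ent cTab 7 (x.2 * 24 + y.2)))) = _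
  have hs := sgnOf_lt al be (ent cTab 7 (x.2 * 24 + y.2))
  obtain ⟨h1, h2⟩ := par_sgn _ (emul_lt _ hx.1 _ hA)
  generalize sgnOf al be (ent cTab 7 (x.2 * 24 + y.2)) = s at hs
  interval_cases s
  · rw [mul_zero, h2, par_emul _ hx.1 _ hA, par_aAct _ hx.2 _ hy.1]
  · rw [mul_one, h1, par_emul _ hx.1 _ hA, par_aAct _ hx.2 _ hy.1]

variable {G : Type*} [Group G] [Finite G] {z : G} {al be : Bool} {f : ℕ × ℕ → G}

namespace Mdl

variable (M : Mdl z al be f)
include M

omit [Finite G] in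
theorem sq {x : ℕ × ℕ} (hx : Ok x) : f x * f x = f (sqM al be x) := M.mul x x hx hx

omit [Finite G] in
theorem eq_iff {x y : ℕ × ℕ} (hx : Ok x) (hy : Ok y) : f x = f y ↔ x = y :=
  ⟨M.inj x y hx hy, fun h => by rw [h]⟩

omit [Finite G] in
theorem zne : z ≠ 1 := fun h => by
  have := M.inj (16, 0) (0, 0) ⟨by norm_num, by norm_num⟩ ⟨by norm_num, by norm_num⟩ (by rw [M.zval, h, M.one])
  simp at this

omit [Finite G] in
theorem zz : z * z = 1 := by
  rw [← M.zval, M.sq ⟨by norm_num, by norm_num⟩, show sqM al be (16, 0) = (0, 0) by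
    cases al <;> cases be <;> decide +kernel, M.one]

omit [Finite G] in
theorem commute_iff {x c : ℕ × ℕ} (hx : Ok x) (hc : Ok c) :
    f c * f x = f x * f c ↔ c ∈ centM al be x := by
  rw [M.mul c x hc hx, M.mul x c hx hc, M.eq_iff (mulM_ok al be hc hx) (mulM_ok al be hx hc), centM,
    List.mem_filter]
  exact ⟨fun h => ⟨ok_iff.1 hc, beq_iff_eq.2 h⟩, fun h => beq_iff_eq.1 h.2⟩

omit [Finite G] in
theorem mem_CH_iff {x : ℕ × ℕ} (hx : Ok x) {g : G} : g ∈ CH z (f x) ↔ ∃ c ∈ centM al be x, f c = g := by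
  rw [mem_CH]
  constructor
  · rintro ⟨h1, h2⟩
    obtain ⟨c, hc, rfl⟩ := M.surj g h1
    exact ⟨c, (M.commute_iff hx hc).1 h2, rfl⟩
  · rintro ⟨c, hc, rfl⟩
    have hok := ok_iff.2 (List.mem_filter.1 hc).1
    exact ⟨M.mem c hok, (M.commute_iff hx hok).2 hc⟩

/-- The elements of the common centraliser with a given property are counted in the model. -/
theorem card_CH_filter {x : ℕ × ℕ} (hx : Ok x) (P : G → Prop) (p : ℕ × ℕ → Bool)
    (hp : ∀ c ∈ centM al be x, P (f c) ↔ p c = true) :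
    Nat.card {g : G // g ∈ CH z (f x) ∧ P g} = ((centM al be x).filter p).length := by
  classical
  have hnd : ((centM al be x).filter p).Nodup := (allM_nodup.filter _).filter _
  rw [← List.toFinset_card_of_nodup hnd, ← Nat.card_eq_finsetCard]
  refine (Nat.card_eq_of_bijective
    (fun c : ((centM al be x).filter p).toFinset => (⟨f c, ?_⟩ : {g : G // g ∈ CH z (f x) ∧ P g})) ⟨?_, ?_⟩).symm
  · obtain ⟨h1, h2⟩ := List.mem_filter.1 (List.mem_toFinset.1 c.2)
    exact ⟨(M.mem_CH_iff hx).2 ⟨_, h1, rfl⟩, (hp _ h1).2 h2⟩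
  · intro a b h
    have ha := ok_iff.2 (List.mem_filter.1 (List.mem_filter.1 (List.mem_toFinset.1 a.2)).1).1
    have hb := ok_iff.2 (List.mem_filter.1 (List.mem_filter.1 (List.mem_toFinset.1 b.2)).1).1
    exact Subtype.ext (M.inj _ _ ha hb (congrArg Subtype.val h))
  · rintro ⟨g, hg, hP⟩
    obtain ⟨c, hc, rfl⟩ := (M.mem_CH_iff hx).1 hg
    exact ⟨⟨c, List.mem_toFinset.2 (List.mem_filter.2 ⟨hc, (hp c hc).1 hP⟩)⟩, rfl⟩

theorem card_CH {x : ℕ × ℕ} (hx : Ok x) : Nat.card (CH z (f x)) = (centM al be x).length := by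
  have h := M.card_CH_filter hx (fun _ => True) (fun _ => true) (fun _ _ => by simp)
  simp only [and_true, List.filter_true] at h
  exact h

omit [Finite G] in
/-- An element of two-power order has order dividing eight. -/
theorem pow_eight {c : ℕ × ℕ} (hc : Ok c) {R : Subgroup G} (hR : IsPGroup 2 R) (hcR : f c ∈ R) :
    (f c ^ 4) * (f c ^ 4) = 1 := by
  haveI : Fact (Nat.Prime 2) := ⟨Nat.prime_two⟩
  have h24 : f c ^ 24 = 1 := by
    have h1 : f c ^ 2 = f (sqM al be c) := by rw [pow_two, M.sq hc]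
    have o1 : Ok (sqM al be c) := mulM_ok al be hc hc
    have h2 : f c ^ 4 = f (fthM al be c) := by
      rw [show (4 : ℕ) = 2 + 2 from rfl, pow_add, h1, M.sq o1]; rfl
    have o2 : Ok (fthM al be c) := mulM_ok al be o1 o1
    have o2' : Ok (sqM al be c) := o1
    have h8 : f c ^ 8 = f (fthM al be (sqM al be c)) := by
      rw [show (8 : ℕ) = 4 + 4 from rfl, pow_add, h2, M.sq o2]; rfl
    have o3 : Ok (fthM al be (sqM al be c)) := mulM_ok al be o2 o2
    have h := exponent al be c.2 hc.2 c.1 hc.1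
    simp only [Prod.mk.eta] at h
    rw [show (24 : ℕ) = 8 + 8 + 8 from rfl, pow_add, pow_add, h8, M.mul _ _ o3 o3,
      M.mul _ _ (mulM_ok al be o3 o3) o3, h, M.one]
  obtain ⟨k, hk⟩ := hR ⟨f c, hcR⟩
  have hk' : f c ^ 2 ^ k = 1 := by simpa [Subtype.ext_iff] using hk
  rw [← pow_add]
  refine orderOf_dvd_iff_pow_eq_one.1 ?_
  obtain ⟨i, -, hi⟩ := (Nat.dvd_prime_pow Nat.prime_two).1 (orderOf_dvd_of_pow_eq_one hk')
  have h := orderOf_dvd_of_pow_eq_one h24
  rw [hi] at h ⊢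
  rcases le_or_gt i 3 with hle | hgt
  · exact (pow_dvd_pow 2 hle).trans (by norm_num)
  · exact absurd ((pow_dvd_pow 2 hgt).trans h) (by norm_num)

/-- What the model says about an involution. -/
theorem invol_facts {x : ℕ × ℕ} (hx : Ok x) (h2 : f x * f x = 1) (h1 : f x ≠ 1) :
    (∃ c ∈ CH z (f x), c ^ 2 = z) ∧
      ((par x.1 = 0 ∧ wpar x.2 = 0) → (∃ c ∈ CH z (f x), c ^ 4 = z) ∨
        (Nat.card (CH z (f x)) = 32 ∧ ∀ c ∈ CH z (f x), c ^ 4 = 1)) ∧
      (¬ (par x.1 = 0 ∧ wpar x.2 = 0) → (∀ c ∈ CH z (f x), c ^ 2 = 1 ∨ c ^ 2 = z) ∨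
        ((∃ c ∈ CH z (f x), c ^ 4 = z) ∧ (∀ c ∈ CH z (f x), c ^ 4 * c ^ 4 = 1 → c ^ 4 = 1 ∨ c ^ 4 = z) ∧
          (Nat.card (CH z (f x)) = 96 ∨ Nat.card (CH z (f x)) = 32))) := by
  have o0 : Ok ((0, 0) : ℕ × ℕ) := ⟨by norm_num, by norm_num⟩
  have o16 : Ok ((16, 0) : ℕ × ℕ) := ⟨by norm_num, by norm_num⟩
  have hsq : sqM al be x = (0, 0) := M.inj _ _ (mulM_ok al be hx hx) o0 (by rw [← M.sq hx, h2, M.one])
  have hx1 : x ≠ (0, 0) := fun h => h1 (h ▸ M.one)
  have hok := ok_all al be x.2 hx.2 x.1 hx.1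
  simp only [okInv, Prod.mk.eta, hsq, beq_self_eq_true, Bool.not_true, Bool.false_or,
    Bool.or_eq_true, beq_iff_eq, hx1, false_or, Bool.and_eq_true, List.contains_iff_mem, List.mem_map] at hok
  have okc : ∀ c ∈ centM al be x, Ok c := fun c hc => ok_iff.2 (List.mem_filter.1 hc).1
  have p2 : ∀ c ∈ centM al be x, f c ^ 2 = f (sqM al be c) := fun c hc => by rw [pow_two, M.sq (okc c hc)]
  have p4 : ∀ c ∈ centM al be x, f c ^ 4 = f (sqM al be (sqM al be c)) := fun c hc => by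
    rw [show (4 : ℕ) = 2 + 2 from rfl, pow_add, p2 c hc,
      M.sq (x := sqM al be c) (mulM_ok al be (okc c hc) (okc c hc))]
  have oq : ∀ c ∈ centM al be x, Ok (sqM al be (sqM al be c)) := fun c hc =>
    mulM_ok al be (mulM_ok al be (okc c hc) (okc c hc)) (mulM_ok al be (okc c hc) (okc c hc))
  have mem := fun g => M.mem_CH_iff hx (g := g)
  have hlen := M.card_CH hx
  obtain ⟨⟨c, hc, hcz⟩, hbr⟩ := hok
  have root4 : (∃ a, (∃ c, c ∈ centM al be x ∧ sqM al be c = a) ∧ sqM al be a = (16, 0)) →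
      ∃ c ∈ CH z (f x), c ^ 4 = z := by
    rintro ⟨a, ⟨c, hc, rfl⟩, ha⟩
    exact ⟨f c, (mem _).2 ⟨c, hc, rfl⟩, by rw [p4 c hc, ha, M.zval]⟩
  refine ⟨⟨f c, (mem _).2 ⟨c, hc, rfl⟩, by rw [p2 c hc, hcz, M.zval]⟩, fun hin => ?_, fun hout => ?_⟩
  · rw [if_pos (by simp [hin.1, hin.2])] at hbr
    simp only [Bool.or_eq_true, List.contains_iff_mem, List.mem_map, Bool.and_eq_true, beq_iff_eq,
      List.all_eq_true] at hbr
    rcases hbr with h | ⟨hl, hall⟩
    · exact Or.inl (root4 h)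
    · refine Or.inr ⟨hlen.trans hl, fun g hg => ?_⟩
      obtain ⟨c, hc, rfl⟩ := (mem g).1 hg
      rw [p4 c hc, hall _ ⟨_, ⟨c, hc, rfl⟩, rfl⟩, M.one]
  · rw [if_neg (by simpa using hout)] at hbr
    simp only [Bool.or_eq_true, List.contains_iff_mem, List.mem_map, Bool.and_eq_true, beq_iff_eq,
      List.all_eq_true, Bool.not_eq_true', beq_eq_false_iff_ne] at hbr
    rcases hbr with h | ⟨⟨h4, hall⟩, hl⟩
    · refine Or.inl fun g hg => ?_
      obtain ⟨c, hc, rfl⟩ := (mem g).1 hg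
      rw [p2 c hc]
      exact (h _ ⟨c, hc, rfl⟩).imp (fun e => by rw [e, M.one]) fun e => by rw [e, M.zval]
    · refine Or.inr ⟨root4 h4, fun g hg h8 => ?_, hl.imp hlen.trans hlen.trans⟩
      obtain ⟨c, hc, rfl⟩ := (mem g).1 hg
      rw [p4 c hc, M.sq (oq c hc), ← M.one] at h8
      replace h8 := M.inj _ _ (mulM_ok al be (oq c hc) (oq c hc)) o0 h8
      rw [p4 c hc]
      rcases hall _ ⟨_, ⟨c, hc, rfl⟩, rfl⟩ with (hne | e) | e
      · exact absurd h8 hne
      · exact Or.inl (by rw [e, M.one])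
      · exact Or.inr (by rw [e, M.zval])

/-- An involution outside the kernel of the parities is fused only within `C(z)`. -/
theorem conj_in_cent {x y : ℕ × ℕ} (hx : Ok x) (hy : Ok y) (h2 : f x * f x = 1) (h1 : f x ≠ 1)
    (hout : ¬ (par x.1 = 0 ∧ wpar x.2 = 0)) {g : G} (hg : g * f x * g⁻¹ = f y) :
    ∃ h, h * z = z * h ∧ h * f x * h⁻¹ = f y := by
  haveI : Fact (Nat.Prime 2) := ⟨Nat.prime_two⟩
  have hy2 : f y * f y = 1 := by
    rw [← hg, show g * f x * g⁻¹ * (g * f x * g⁻¹) = g * (f x * f x) * g⁻¹ by group, h2]; group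
  have hy1 : f y ≠ 1 := fun h => h1 (conj_eq_one_iff.1 (hg.trans h))
  have hgi : g⁻¹ * f y * g⁻¹⁻¹ = f x := by rw [← hg]; group
  obtain ⟨hxr, -, hxo⟩ := M.invol_facts hx h2 h1
  obtain ⟨hyr, hyi, hyo⟩ := M.invol_facts hy hy2 hy1
  have key1 : ∀ {u w : ℕ × ℕ}, Ok u → Ok w → ∀ {k : G}, k * f u * k⁻¹ = f w →
      (∀ c ∈ CH z (f u), c ^ 2 = 1 ∨ c ^ 2 = z) → (∃ c ∈ CH z (f u), c ^ 2 = z) →
      (∃ c ∈ CH z (f w), c ^ 2 = z) → ∃ h, h * z = z * h ∧ h * f u * h⁻¹ = f w := by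
    intro u w hu hw k hk hall hc hd
    obtain ⟨d, hd, hdz⟩ := hd
    exact (conj_of_root (M.mem u hu) (M.mem w hw) hk M.zne M.zz ⟨1, rfl⟩ hc
      fun R _ hR r hr => hall r (hR hr)).1 d hd hdz
  rcases hxo hout with hP | ⟨hc4, hall4, hcard⟩
  · exact key1 hx hy hg hP hxr hyr
  have hroot := conj_of_root (M.mem x hx) (M.mem y hy) hg M.zne M.zz (n := 4) ⟨2, rfl⟩ hc4
    (fun R hR hRle r hr => by
      obtain ⟨c, hc, rfl⟩ := (M.mem_CH_iff hx).1 (hRle hr)
      exact hall4 _ (hRle hr) (M.pow_eight (ok_iff.2 (List.mem_filter.1 hc).1) hR hr))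
  by_cases hd4 : ∃ d ∈ CH z (f y), d ^ 4 = z
  · obtain ⟨d, hd, hdz⟩ := hd4
    exact hroot.1 d hd hdz
  by_cases hin : par y.1 = 0 ∧ wpar y.2 = 0
  · rcases hyi hin with h | ⟨hl, hno⟩
    · exact absurd h hd4
    · exact (hroot.2 hl hno hcard).elim
  · rcases hyo hin with hP | ⟨h, -⟩
    · obtain ⟨h, hz, hh⟩ := key1 hy hx hgi hP hyr hxr
      refine ⟨h⁻¹, ?_, by rw [← hh]; group⟩
      calc h⁻¹ * z = h⁻¹ * (z * h) * h⁻¹ := by group
        _ = z * h⁻¹ := by rw [← hz]; group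
    · exact absurd h hd4

/-- Fusion preserves the parities of involutions. -/
theorem parity_conj {x y : ℕ × ℕ} (hx : Ok x) (hy : Ok y) (h2 : f x * f x = 1)
    {g : G} (hg : g * f x * g⁻¹ = f y) : par x.1 = par y.1 ∧ wpar x.2 = wpar y.2 := by
  have hlt : ∀ v, par v < 2 := fun v => Nat.mod_lt _ (by norm_num)
  have hlt' : ∀ v, wpar v < 2 := fun v => Nat.mod_lt _ (by norm_num)
  have same : ∀ {u w : ℕ × ℕ}, Ok u → Ok w → ∀ {h : G}, h * z = z * h → h * f u * h⁻¹ = f w →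
      par u.1 = par w.1 ∧ wpar u.2 = wpar w.2 := by
    intro u w hu hw h hh he
    obtain ⟨c, hc, rfl⟩ := M.surj h hh
    rw [mul_inv_eq_iff_eq_mul, M.mul c u hc hu, M.mul w c hw hc,
      M.eq_iff (mulM_ok al be hc hu) (mulM_ok al be hw hc)] at he
    obtain ⟨a1, a2⟩ := par_mulM al be hc hu
    obtain ⟨b1, b2⟩ := par_mulM al be hw hc
    rw [he] at a1 a2
    have := hlt u.1; have := hlt w.1; have := hlt c.1
    have := hlt' u.2; have := hlt' w.2; have := hlt' c.2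
    constructor <;> omega
  have hy2 : f y * f y = 1 := by
    rw [← hg, show g * f x * g⁻¹ * (g * f x * g⁻¹) = g * (f x * f x) * g⁻¹ by group, h2]; group
  by_cases h1 : f x = 1
  · have : f y = 1 := by rw [← hg, h1]; group
    rw [← M.one] at h1 this
    rw [M.inj _ _ hx ⟨by norm_num, by norm_num⟩ h1, M.inj _ _ hy ⟨by norm_num, by norm_num⟩ this]
    exact ⟨rfl, rfl⟩
  by_cases hout : par x.1 = 0 ∧ wpar x.2 = 0
  · by_cases hout' : par y.1 = 0 ∧ wpar y.2 = 0
    · exact ⟨hout.1.trans hout'.1.symm, hout.2.trans hout'.2.symm⟩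
    · obtain ⟨h, hz, he⟩ := M.conj_in_cent hy hx hy2 (fun h => h1 (conj_eq_one_iff.1 (hg.trans h))) hout'
        (g := g⁻¹) (by rw [← hg]; group)
      exact ⟨(same hy hx hz he).1.symm, (same hy hx hz he).2.symm⟩
  · obtain ⟨h, hz, he⟩ := M.conj_in_cent hx hy h2 h1 hout hg
    exact same hx hy hz he

/-- With anticommuting disjoint transpositions `z` is isolated. -/
theorem isolated (hbe : be = true) : Cfsg.IsIsolatedInvolution z := by
  subst hbe
  refine ⟨orderOf_eq_prime (p := 2) (by rw [pow_two, M.zz]) M.zne, fun g hc => ?_⟩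
  by_contra hne
  have o16 : Ok ((16, 0) : ℕ × ℕ) := ⟨by norm_num, by norm_num⟩
  have o15 : Ok ((15, 0) : ℕ × ℕ) := ⟨by norm_num, by norm_num⟩
  have o31 : Ok ((31, 0) : ℕ × ℕ) := ⟨by norm_num, by norm_num⟩
  -- the conjugates of `z` in `C(z)`
  have key : ∀ k : G, Commute z (k * z * k⁻¹) → k * z * k⁻¹ ≠ z →
      k * z * k⁻¹ = f (15, 0) ∨ k * z * k⁻¹ = f (31, 0) := by
    intro k hk hkne
    obtain ⟨x, hx, hxe⟩ := M.surj _ hk.eq.symm
    have hsq : f x * f x = 1 := by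
      rw [hxe, show k * z * k⁻¹ * (k * z * k⁻¹) = k * (z * z) * k⁻¹ by group, M.zz]; group
    have hp := M.parity_conj o16 hx (by rw [M.zval]; exact M.zz) (g := k) (by rw [M.zval, hxe])
    have hs : sqM al true x = (0, 0) :=
      M.inj _ _ (mulM_ok al true hx hx) ⟨by norm_num, by norm_num⟩ (by rw [← M.sq hx, hsq, M.one])
    have h := even_be al x.2 hx.2 x.1 hx.1
    simp only [Prod.mk.eta, hs, ← hp.1, ← hp.2, show par 16 = 0 by decide +kernel,
      show wpar 0 = 0 by decide +kernel, beq_self_eq_true, Bool.and_self, Bool.not_true, Bool.false_or,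
      Bool.and_eq_true, Bool.or_eq_true, beq_iff_eq] at h
    obtain ⟨v, i⟩ := x
    obtain ⟨rfl, ((rfl | rfl) | rfl) | rfl⟩ := h
    · refine absurd ?_ M.zne
      rw [M.one] at hxe
      exact conj_eq_one_iff.1 hxe.symm
    · exact Or.inl hxe.symm
    · exact absurd (hxe.symm.trans M.zval) hkne
    · exact Or.inr hxe.symm
  set v := g * z * g⁻¹ with hv
  set w := g⁻¹ * z * g⁻¹⁻¹ with hw
  have hwc : Commute z w := by
    have := (Commute.conj_iff g⁻¹).2 hc.symm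
    rw [show g⁻¹ * (g * z * g⁻¹) * g⁻¹⁻¹ = z by group] at this
    exact this
  have hwne : w ≠ z := fun h => hne (by
    calc v = g * z * g⁻¹ := rfl
      _ = g * w * g⁻¹ := by rw [h]
      _ = z := by rw [hw]; group)
  have hv' := key g hc hne
  have hw' := key g⁻¹ hwc hwne
  have hCH : ∀ {t : G}, t = f (15, 0) ∨ t = f (31, 0) → CH z t = CH z (f (15, 0)) := by
    rintro t (rfl | rfl)
    · rfl
    · ext c
      rw [M.mem_CH_iff o31, M.mem_CH_iff o15, cent_fifteen al]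
  have hcount : ∀ {t : ℕ × ℕ}, Ok t → Nat.card {c : G // c ∈ CH z (f (15, 0)) ∧ c * c = f t} =
      ((centM al true (15, 0)).map (sqM al true)).count t := by
    intro t ht
    rw [M.card_CH_filter o15 (fun c => c * c = f t) (fun c => sqM al true c == t) (fun c hc => by
      have hok := ok_iff.2 (List.mem_filter.1 hc).1
      rw [M.sq hok, M.eq_iff (x := sqM al true c) (mulM_ok al true hok hok) ht, beq_iff_eq]), List.count, List.countP_map,
      List.countP_eq_length_filter]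
    rfl
  have hmap : ∀ c, c ∈ CH z v ↔ g⁻¹ * c * g ∈ CH z w := by
    intro c
    rw [mem_CH, mem_CH, hv, hw]
    constructor
    · rintro ⟨h1, h2⟩
      constructor
      · calc g⁻¹ * c * g * z = g⁻¹ * (c * (g * z * g⁻¹)) * g := by group
          _ = z * (g⁻¹ * c * g) := by rw [h2]; group
      · calc g⁻¹ * c * g * (g⁻¹ * z * g⁻¹⁻¹) = g⁻¹ * (c * z) * g := by group
          _ = (g⁻¹ * z * g⁻¹⁻¹) * (g⁻¹ * c * g) := by rw [h1]; group
    · rintro ⟨h1, h2⟩
      constructor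
      · calc c * z = g * (g⁻¹ * c * g * (g⁻¹ * z * g⁻¹⁻¹)) * g⁻¹ := by group
          _ = z * c := by rw [h2]; group
      · calc c * (g * z * g⁻¹) = g * (g⁻¹ * c * g * z) * g⁻¹ := by group
          _ = g * z * g⁻¹ * c := by rw [h1]; group
  have hwmap : g⁻¹ * z * g = w := by rw [hw, inv_inv]
  have hmap' : ∀ c, c ∈ CH z v → g⁻¹ * c * g ∈ CH z w := fun c => (hmap c).1
  have hin : ∀ c, c ∈ CH z (f (15, 0)) → g⁻¹ * c * g ∈ CH z (f (15, 0)) := by
    rw [← hCH (t := v) hv']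
    intro c hc
    rw [hCH (t := v) hv', ← hCH (t := w) hw']
    exact hmap' c hc
  have hout : ∀ c, g⁻¹ * c * g ∈ CH z (f (15, 0)) → c ∈ CH z (f (15, 0)) := by
    intro c hc
    rw [← hCH (t := w) hw'] at hc
    rw [← hCH (t := v) hv']
    exact (hmap c).2 hc
  have e : {c : G // c ∈ CH z (f (15, 0)) ∧ c * c = z} ≃ {c : G // c ∈ CH z (f (15, 0)) ∧ c * c = w} :=
    { toFun := fun c => ⟨g⁻¹ * c * g, by
        obtain ⟨h1, h2⟩ := c.2
        refine ⟨?_, ?_⟩
        · exact hin _ h1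
        · rw [show g⁻¹ * (c : G) * g * (g⁻¹ * c * g) = g⁻¹ * ((c : G) * c) * g by group, h2, hwmap]⟩
      invFun := fun c => ⟨g * c * g⁻¹, by
        obtain ⟨h1, h2⟩ := c.2
        refine ⟨?_, ?_⟩
        · refine hout _ ?_
          rwa [show g⁻¹ * (g * (c : G) * g⁻¹) * g = c by group]
        · rw [show g * (c : G) * g⁻¹ * (g * c * g⁻¹) = g * ((c : G) * c) * g⁻¹ by group, h2, hw]; group⟩
      left_inv := fun c => Subtype.ext (by group)
      right_inv := fun c => Subtype.ext (by group) }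
  have := Nat.card_congr e
  have hz16 := hcount o16
  rw [M.zval] at hz16
  rcases hw' with hwe | hwe <;> change w = _ at hwe <;> rw [hwe, hz16] at this
  · rw [hcount o15] at this
    exact (roots_be al).1 this
  · rw [hcount o31] at this
    exact (roots_be al).2 this

end Mdl

end Cfsg.Lib.AutPGL34
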