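import Cfsg.Agent.Lib.AutPGL34.Gens

/-!
# The centraliser is the model
-/

set_option autoImplicit false
set_option linter.style.haveILetI false

namespace Cfsg.Lib.AutPGL34

open Subgroup

/-- An element of the model. -/
def Ok (x : ℕ × ℕ) : Prop := x.1 < 32 ∧ x.2 < 24

theorem ok_iff {x : ℕ × ℕ} : Ok x ↔ x ∈ allM := by
  obtain ⟨v, i⟩ := x
  simp [Ok, allM, and_comm]

theorem xor_lt32 {a b : ℕ} (ha : a < 32) (hb : b < 32) : a ^^^ b < 32 := Nat.xor_lt_two_pow (n := 5) ha hb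

theorem sgnOf_lt (al be : Bool) (t : ℕ) : sgnOf al be t < 2 := Nat.mod_lt _ (by norm_num)

theorem mulM_ok (al be : Bool) {x y : ℕ × ℕ} (hx : Ok x) (hy : Ok y) : Ok (mulM al be x y) :=
  ⟨xor_lt32 (emul_lt _ hx.1 _ (aAct_word _ hx.2 _ hy.1).2)
    (by have := sgnOf_lt al be (ent cTab 7 (x.2 * 24 + y.2)); omega), (cTab_fold _ hx.2 _ hy.2).2⟩

/-- The centraliser of `z` presented by the model. -/
structure Mdl {G : Type*} [Group G] (z : G) (al be : Bool) (f : ℕ × ℕ → G) : Prop where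
  mem : ∀ x, Ok x → f x * z = z * f x
  surj : ∀ g : G, g * z = z * g → ∃ x, Ok x ∧ f x = g
  inj : ∀ x y, Ok x → Ok y → f x = f y → x = y
  mul : ∀ x y, Ok x → Ok y → f x * f y = f (mulM al be x y)
  one : f (0, 0) = 1
  zval : f (16, 0) = z

theorem exists_mdl_self {K : Type*} [Group K] [Finite K] {E : Subgroup K} [E.Normal] {z : K} (B : Base E z)
    (hE : Cfsg.IsExtraspecial 2 E) (hno : ∀ A : Subgroup E, Cfsg.IsElementaryAbelian 2 A → Nat.card A ≠ 8)
    (φ : (K ⧸ E) ≃* Equiv.Perm (Fin 4)) :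
    ∃ (al be : Bool) (f : ℕ × ℕ → K), Mdl z al be f := by
  obtain ⟨e₀, q₀⟩ := exists_quad B.zne B.zsq B.zmem B.zc hE B.card hno
  have hf : Function.Bijective φ.toMonoidHom := φ.bijective
  obtain ⟨e, q, h4⟩ := exists_frame B q₀ φ.toMonoidHom hf
  obtain ⟨al, be, s, R, hs⟩ := exists_rels B q φ.toMonoidHom hf h4
  have hcard : Nat.card K = 768 := by
    rw [card_eq_card_quotient_mul_card_subgroup E, Nat.card_congr φ.toEquiv, B.card, Nat.card_perm, Nat.card_fin]
    rfl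
  have hW : ∀ i < 24, rho B q (elW s i) = wPerm i := fun i hi => by
    rw [elW, map_list_prod, wPerm, List.map_map]
    exact congrArg List.prod (List.map_congr_left fun k hk => hs k (word_lt i hi k hk))
  have hsurj : ∀ g : K, ∃ x, Ok x ∧ el z e s x = g := fun g => by
    obtain ⟨i, hi, hπ⟩ := fix_four (rho B q g) (h4 g)
    have hm : g * (elW s i)⁻¹ ∈ E := by
      rw [← rho_ker B q, MonoidHom.mem_ker, map_mul, map_inv, hW i hi, hπ, mul_inv_cancel]
    obtain ⟨v, hv, hve⟩ := elE_surj B q hm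
    exact ⟨(v, i), ⟨hv, hi⟩, by rw [el, hve, inv_mul_cancel_right]⟩
  have hbij : Function.Bijective fun p : Fin 32 × Fin 24 => el z e s ((p.1 : ℕ), (p.2 : ℕ)) := by
    rw [Nat.bijective_iff_surjective_and_card]
    refine ⟨fun g => ?_, by rw [hcard]; simp⟩
    obtain ⟨⟨v, i⟩, ⟨hv, hi⟩, hg⟩ := hsurj g
    exact ⟨(⟨v, hv⟩, ⟨i, hi⟩), hg⟩
  refine ⟨al, be, el z e s, fun x _ => B.zc _, fun g _ => hsurj g, ?_, fun x y hx hy => R.el_mul hx hy, ?_, ?_⟩
  · rintro ⟨v, i⟩ ⟨u, j⟩ ⟨hv, hi⟩ ⟨hu, hj⟩ h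
    have := hbij.1 (a₁ := (⟨v, hv⟩, ⟨i, hi⟩)) (a₂ := (⟨u, hu⟩, ⟨j, hj⟩)) h
    simp only [Prod.mk.injEq, Fin.mk.injEq] at this
    rw [this.1, this.2]
  · simp [el, elE, elW, word, eList, List.range_succ]
  · simp [el, elE, elW, word, eList, List.range_succ]

/-- The same for the centraliser in a group. -/
theorem exists_mdl {G : Type*} [Group G] [Finite G] {z : G} (hz : orderOf z = 2)
    (E : Subgroup ↥(centralizer ({z} : Set G))) [E.Normal] (hE : Cfsg.IsExtraspecial 2 E)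
    (h32 : Nat.card E = 32) (hno : ∀ A : Subgroup E, Cfsg.IsElementaryAbelian 2 A → Nat.card A ≠ 8)
    (hCE : centralizer (E : Set ↥(centralizer ({z} : Set G))) ≤ E)
    (φ : (↥(centralizer ({z} : Set G)) ⧸ E) ≃* Equiv.Perm (Fin 4)) :
    ∃ (al be : Bool) (f : ℕ × ℕ → G), Mdl z al be f := by
  let z' : ↥(centralizer ({z} : Set G)) := ⟨z, mem_centralizer_singleton_iff.2 rfl⟩
  have hzc : ∀ x : ↥(centralizer ({z} : Set G)), x * z' = z' * x := fun x => Subtype.ext (mem_centralizer_singleton_iff.1 x.2)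
  have hz2 : z * z = 1 := by rw [← pow_two, ← hz, pow_orderOf_eq_one]
  have B : Base E z' :=
    { zne := fun h => by
        have : z = 1 := congrArg Subtype.val h
        rw [this, orderOf_one] at hz
        norm_num at hz
      zsq := Subtype.ext hz2
      zmem := hCE (mem_centralizer_iff.2 fun x _ => hzc x)
      zc := hzc
      card := h32
      norm := inferInstance
      cent := hCE }
  obtain ⟨al, be, f, M⟩ := exists_mdl_self B hE hno φ
  refine ⟨al, be, fun x => (f x : G), fun x hx => congrArg Subtype.val (M.mem x hx), fun g hg => ?_,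
    fun x y hx hy h => M.inj x y hx hy (Subtype.ext h), fun x y hx hy => congrArg Subtype.val (M.mul x y hx hy),
    congrArg Subtype.val M.one, congrArg Subtype.val M.zval⟩
  obtain ⟨x, hx, hxe⟩ := M.surj ⟨g, mem_centralizer_singleton_iff.2 hg⟩ (hzc _)
  exact ⟨x, hx, congrArg Subtype.val hxe⟩

end Cfsg.Lib.AutPGL34
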