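import Cfsg.Agent.Lib.ZStar.Main
import Cfsg.Prelude.Def_Transfer
import Mathlib.GroupTheory.FixedPointFree
import Cfsg.Agent.Lib.Core.Fitting

/-!
# The odd core
-/

set_option autoImplicit false
set_option linter.style.haveILetI false

namespace Cfsg.Lib.AutPGL34

open Subgroup Cfsg Cfsg.Lib

variable {G : Type*} [Group G] [Finite G] {z : G}

/-- A normal subgroup of odd order of the centraliser is trivial. -/
theorem odd_normal_cent (E : Subgroup ↥(centralizer ({z} : Set G))) [E.Normal] (h32 : Nat.card E = 32)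
    (hCE : centralizer (E : Set ↥(centralizer ({z} : Set G))) ≤ E)
    {N : Subgroup ↥(centralizer ({z} : Set G))} [N.Normal] (hodd : Odd (Nat.card N)) : N = ⊥ := by
  have hd : ∀ x, x ∈ N → x ∈ E → x = 1 := fun x hN hE => by
    refine orderOf_eq_one_iff.1 (Nat.Coprime.eq_one_of_dvd ?_ (h32 ▸ orderOf_dvd_natCard _ hE))
    exact (Nat.coprime_two_right.2 (hodd.of_dvd_nat (orderOf_dvd_natCard _ hN))).pow_right 5
  refine (eq_bot_iff_forall N).2 fun x hx => hd x hx (hCE (mem_centralizer_iff.2 fun e he => ?_))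
  have h1 : e * x * e⁻¹ * x⁻¹ ∈ N := mul_mem (Normal.conj_mem inferInstance x hx e) (inv_mem hx)
  have h2 : e * x * e⁻¹ * x⁻¹ ∈ E := by
    rw [show e * x * e⁻¹ * x⁻¹ = e * (x * e⁻¹ * x⁻¹) by group]
    exact mul_mem he (Normal.conj_mem inferInstance _ (inv_mem he) x)
  have := hd _ h1 h2
  calc e * x = e * x * e⁻¹ * x⁻¹ * (x * e) := by group
    _ = x * e := by rw [this, one_mul]

/-- `z` inverts a normal subgroup of odd order. -/
theorem inverts (hz : orderOf z = 2) (E : Subgroup ↥(centralizer ({z} : Set G))) [E.Normal]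
    (h32 : Nat.card E = 32) (hCE : centralizer (E : Set ↥(centralizer ({z} : Set G))) ≤ E) {N : Subgroup G}
    [hN : N.Normal] (hodd : Odd (Nat.card N)) : ∀ x ∈ N, z * x * z⁻¹ = x⁻¹ := by
  have hzz : z * z = 1 := by rw [← pow_two, ← hz, pow_orderOf_eq_one]
  have hzi : z⁻¹ = z := inv_eq_of_mul_eq_one_left hzz
  have hbot : N.subgroupOf (centralizer ({z} : Set G)) = ⊥ := by
    refine odd_normal_cent E h32 hCE (hodd.of_dvd_nat ?_)
    rw [← card_map_of_injective (centralizer ({z} : Set G)).subtype_injective, subgroupOf_map_subtype]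
    exact card_dvd_of_le inf_le_left
  let τ : N → N := MulAut.conjNormal z
  have hfpf : MonoidHom.FixedPointFree τ := fun x hx => by
    have h1 : z * (x : G) * z⁻¹ = x := congrArg Subtype.val hx
    have h2 : (⟨x, mem_centralizer_singleton_iff.2 (mul_inv_eq_iff_eq_mul.1 h1).symm⟩ :
        ↥(centralizer ({z} : Set G))) ∈ N.subgroupOf _ := x.2
    rw [hbot, mem_bot] at h2
    exact Subtype.ext (congrArg (fun y : ↥(centralizer ({z} : Set G)) => (y : G)) h2)
  have hinv : Function.Involutive τ := fun x => Subtype.ext (by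
    show z * (z * (x : G) * z⁻¹) * z⁻¹ = x
    rw [hzi, show z * (z * (x : G) * z) * z = z * z * x * (z * z) by group, hzz, one_mul, mul_one])
  intro x hx
  have := congrFun (MonoidHom.FixedPointFree.coe_eq_inv_of_involutive (φ := MulAut.conjNormal (H := N) z)
    hfpf hinv) ⟨x, hx⟩
  exact congrArg Subtype.val this

theorem oddCore_comm (hz : orderOf z = 2) (E : Subgroup ↥(centralizer ({z} : Set G))) [E.Normal]
    (h32 : Nat.card E = 32) (hCE : centralizer (E : Set ↥(centralizer ({z} : Set G))) ≤ E) :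
    IsMulCommutative ↥(oddCore G) := by
  haveI : (oddCore G).Normal := pPrimeCore_normal 2 G
  have h := inverts hz E h32 hCE (N := oddCore G) ZStar.odd_card_oddCore
  refine ⟨⟨fun a b => Subtype.ext ?_⟩⟩
  have h1 := h _ (mul_mem a.2 b.2)
  rw [show z * ((a : G) * b) * z⁻¹ = z * a * z⁻¹ * (z * b * z⁻¹) by group, h _ a.2, h _ b.2, mul_inv_rev] at h1
  have h2 := congrArg (fun y : G => y⁻¹) h1
  simp only [mul_inv_rev, inv_inv] at h2
  exact h2.symm

theorem solvable_cent (E : Subgroup ↥(centralizer ({z} : Set G))) [E.Normal] (h32 : Nat.card E = 32)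
    (φ : (↥(centralizer ({z} : Set G)) ⧸ E) ≃* Equiv.Perm (Fin 4))
    (h4 : Group.IsSolvable (Equiv.Perm (Fin 4))) : Group.IsSolvable ↥(centralizer ({z} : Set G)) := by
  haveI : Fact (Nat.Prime 2) := ⟨Nat.prime_two⟩
  haveI := h4
  haveI : Group.IsSolvable (↥(centralizer ({z} : Set G)) ⧸ E) :=
    Group.isSolvable_of_isSolvable_injective (f := φ.toMonoidHom) φ.injective
  haveI hn : Group.IsNilpotent E :=
    (IsPGroup.of_card (n := 5) (by rw [h32]; norm_num) : IsPGroup 2 E).isNilpotent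
  haveI : Group.IsSolvable E := inferInstance
  exact Group.isSolvable_of_ker_le_range E.subtype (QuotientGroup.mk' E)
    (by rw [QuotientGroup.ker_mk', Subgroup.range_subtype])

/-- With a nontrivial odd core the group is soluble. -/
theorem solvable_of_oddCore (hz : orderOf z = 2) (E : Subgroup ↥(centralizer ({z} : Set G))) [E.Normal]
    (hE : Cfsg.IsExtraspecial 2 E)
    (h32 : Nat.card E = 32) (hCE : centralizer (E : Set ↥(centralizer ({z} : Set G))) ≤ E)
    (hH : Group.IsSolvable ↥(centralizer ({z} : Set G))) (hO : oddCore G ≠ ⊥) : Group.IsSolvable G := by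
  classical
  haveI := hH
  haveI hOn : (oddCore G).Normal := pPrimeCore_normal 2 G
  have hinvO := inverts hz E h32 hCE (N := oddCore G) ZStar.odd_card_oddCore
  set C := centralizer (oddCore G : Set G) with hC
  haveI hCn : C.Normal := inferInstance
  have hzC : z ∉ C := fun h => by
    obtain ⟨x, hx, hx1⟩ := (Subgroup.bot_or_exists_ne_one (oddCore G)).resolve_left hO
    have h1 : z * x * z⁻¹ = x := by rw [← mem_centralizer_iff.1 h x hx, mul_inv_cancel_right]
    rw [hinvO x hx] at h1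
    have h2 : x * x = 1 := by
      calc x * x = x⁻¹ * x := by rw [h1]
        _ = 1 := inv_mul_cancel x
    have h3 := (ZStar.odd_orderOf_oddCore hx)
    have h4 : orderOf x ∣ 2 := orderOf_dvd_of_pow_eq_one (by rw [pow_two, h2])
    rcases (Nat.dvd_prime Nat.prime_two).1 h4 with e | e
    · exact hx1 (orderOf_eq_one_iff.1 e)
    · rw [e] at h3; exact absurd h3 (by decide)
  have hzz : z * z = 1 := by rw [← pow_two, ← hz, pow_orderOf_eq_one]
  -- `C ∩ C(z)` is trivial
  have hCbot : ∀ x ∈ C, x * z = z * x → x = 1 := by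
    set N := C.subgroupOf (centralizer ({z} : Set G)) with hN
    haveI : N.Normal := Subgroup.normal_subgroupOf
    have hzE : (⟨z, mem_centralizer_singleton_iff.2 rfl⟩ : ↥(centralizer ({z} : Set G))) ∈ E :=
      hCE (mem_centralizer_iff.2 fun x _ => Subtype.ext (mem_centralizer_singleton_iff.1 x.2))
    have hzN : (⟨z, mem_centralizer_singleton_iff.2 rfl⟩ : ↥(centralizer ({z} : Set G))) ∉ N :=
      fun h => hzC h
    have hcen : ∀ x : E, x ∈ center E → x = 1 ∨ x = ⟨_, hzE⟩ := by
      intro x hx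
      by_contra hcon
      push Not at hcon
      have hzc : (⟨_, hzE⟩ : E) ∈ center E := mem_center_iff.2 fun y => Subtype.ext (Subtype.ext
        (mem_centralizer_singleton_iff.1 (y : ↥(centralizer ({z} : Set G))).2))
      have h2 := hE.2
      rw [Nat.card_eq_two_iff' (1 : center E)] at h2
      obtain ⟨u, -, huniq⟩ := h2
      have e1 := huniq ⟨x, hx⟩ fun h => hcon.1 (congrArg Subtype.val h)
      have hz1 : z ≠ 1 := fun h => by
        rw [h, orderOf_one] at hz
        norm_num at hz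
      have e2 := huniq ⟨_, hzc⟩ fun h => hz1 (congrArg (fun y : center E => (((y : E) : ↥(centralizer ({z} : Set G))) : G)) h)
      exact hcon.2 (congrArg Subtype.val (e1.trans e2.symm))
    have hNE : ∀ x, x ∈ N → x ∈ E → x = 1 := by
      have key : ∀ x : E, (x : ↥(centralizer ({z} : Set G))) ∈ N → x ∈ center E → x = 1 := fun x hxN hxc =>
        (hcen x hxc).resolve_right fun h => hzN (by rw [h] at hxN; exact hxN)
      intro x hxN hxE
      have hxc : (⟨x, hxE⟩ : E) ∈ center E := mem_center_iff.2 fun e => by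
        have h1 : e * ⟨x, hxE⟩ * e⁻¹ * (⟨x, hxE⟩ : E)⁻¹ = 1 := by
          refine key _ ?_ ?_
          · exact mul_mem (Normal.conj_mem inferInstance x hxN e) (inv_mem hxN)
          · rw [← hE.1.2.2]
            exact Subgroup.commutator_mem_commutator (mem_top _) (mem_top _)
        exact eq_of_mul_inv_eq_one (by rw [mul_inv_rev, ← mul_assoc]; exact h1)
      exact congrArg Subtype.val (key ⟨x, hxE⟩ hxN hxc)
    intro x hx hxz
    have hmem : (⟨x, mem_centralizer_singleton_iff.2 hxz⟩ : ↥(centralizer ({z} : Set G))) ∈ N := hx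
    have := hNE _ hmem (hCE (mem_centralizer_iff.2 fun e he => ?_))
    · exact congrArg Subtype.val this
    · have h1 : e * ⟨x, _⟩ * e⁻¹ * (⟨x, _⟩ : ↥(centralizer ({z} : Set G)))⁻¹ = 1 :=
        hNE _ (mul_mem (Normal.conj_mem inferInstance _ hmem e) (inv_mem hmem)) (by
          rw [mul_assoc, mul_assoc]
          refine mul_mem he ?_
          rw [← mul_assoc]
          exact Normal.conj_mem inferInstance _ (inv_mem he) _)
      exact eq_of_mul_inv_eq_one (by rw [mul_inv_rev, ← mul_assoc]; exact h1)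
  have hCodd : Odd (Nat.card C) := by
    by_contra hev
    haveI : Fact (Nat.Prime 2) := ⟨Nat.prime_two⟩
    haveI : Fintype C := Fintype.ofFinite C
    let σ : C → C := MulAut.conjNormal z
    have hσ : Function.Involutive σ := fun x => Subtype.ext (by
      show z * (z * (x : G) * z⁻¹) * z⁻¹ = x
      rw [show z * (z * (x : G) * z⁻¹) * z⁻¹ = z * z * x * (z * z)⁻¹ by group, hzz]; group)
    obtain ⟨a, ha, ha1⟩ := Equiv.Perm.exists_fixed_point_of_prime' (p := 2) (n := 1)
      (σ := hσ.toPerm) (by rw [← Nat.card_eq_fintype_card]; exact even_iff_two_dvd.1 (Nat.not_odd_iff_even.1 hev))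
      (by ext x; simp [pow_two, hσ x]) (a := 1) (Subtype.ext (by show z * 1 * z⁻¹ = 1; group))
    exact ha1 (Subtype.ext (hCbot a a.2 (mul_inv_eq_iff_eq_mul.1 (congrArg Subtype.val ha)).symm))
  have hinvC := inverts hz E h32 hCE (N := C) hCodd
  have hzmem : ∀ g : G, g * z * g⁻¹ * z⁻¹ ∈ C := by
    intro g
    refine mem_centralizer_iff.2 fun x hx => ?_
    have h1 := hinvO x hx
    have h2 := hinvO _ (hOn.conj_mem x hx g⁻¹)
    have h3 : g * z * g⁻¹ * z⁻¹ * x * (g * z * g⁻¹ * z⁻¹)⁻¹ = x := by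
      have e1 : z⁻¹ * x * z = x⁻¹ := by
        rw [inv_eq_of_mul_eq_one_left hzz]
        calc z * x * z = z * x * z⁻¹ := by rw [inv_eq_of_mul_eq_one_left hzz]
          _ = x⁻¹ := h1
      calc g * z * g⁻¹ * z⁻¹ * x * (g * z * g⁻¹ * z⁻¹)⁻¹
          = g * (z * (g⁻¹ * (z⁻¹ * x * z) * g) * z⁻¹) * g⁻¹ := by group
        _ = g * (z * (g⁻¹ * x * g⁻¹⁻¹)⁻¹ * z⁻¹) * g⁻¹ := by rw [e1]; group
        _ = g * (z * (g⁻¹ * x * g⁻¹⁻¹) * z⁻¹)⁻¹ * g⁻¹ := by group
        _ = x := by rw [h2, inv_inv]; group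
    exact (mul_inv_eq_iff_eq_mul.1 h3).symm
  have hCcomm : ∀ a ∈ C, ∀ b ∈ C, Commute a b := by
    intro a ha b hb
    have h1 := hinvC _ (mul_mem ha hb)
    rw [show z * (a * b) * z⁻¹ = z * a * z⁻¹ * (z * b * z⁻¹) by group, hinvC a ha, hinvC b hb, mul_inv_rev] at h1
    have h2 := congrArg (fun y : G => y⁻¹) h1
    simp only [mul_inv_rev, inv_inv] at h2
    exact h2.symm
  have hcover : ∀ g : G, ∃ c ∈ C, ∃ h : ↥(centralizer ({z} : Set G)), g = c * h := by
    intro g
    obtain ⟨m, hm⟩ := hCodd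
    set c₀ := g * z * g⁻¹ * z⁻¹ with hc₀
    refine ⟨c₀ ^ (m + 1), pow_mem (hzmem g) _, ⟨(c₀ ^ (m + 1))⁻¹ * g, mem_centralizer_singleton_iff.2 ?_⟩,
      by simp⟩
    set d := c₀ ^ (m + 1) with hd
    have hdd : d * d = c₀ := by
      have : c₀ ^ (2 * m + 1) = 1 := hm ▸ congrArg Subtype.val (pow_card_eq_one' (x := (⟨c₀, hzmem g⟩ : C)))
      rw [hd, ← pow_add, show m + 1 + (m + 1) = 2 * m + 1 + 1 by ring, pow_succ, this, one_mul]
    have h2 : d * z * d⁻¹ = g * z * g⁻¹ := by
      calc d * z * d⁻¹ = d * (z * d⁻¹ * z⁻¹) * z := by group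
        _ = d * d * z := by rw [hinvC _ (inv_mem (pow_mem (hzmem g) _)), inv_inv]
        _ = g * z * g⁻¹ := by rw [hdd, hc₀]; group
    calc d⁻¹ * g * z = d⁻¹ * (g * z * g⁻¹) * g := by group
      _ = z * (d⁻¹ * g) := by rw [← h2]; group
  let π : ↥(centralizer ({z} : Set G)) →* G ⧸ C := (QuotientGroup.mk' C).comp (Subgroup.subtype _)
  haveI : Group.IsSolvable (G ⧸ C) := Group.isSolvable_of_surjective (f := π) fun q => by
    obtain ⟨g, rfl⟩ := QuotientGroup.mk_surjective q
    obtain ⟨c, hc, h, rfl⟩ := hcover g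
    refine ⟨h, ?_⟩
    show ((h : G) : G ⧸ C) = _
    rw [QuotientGroup.mk_mul, (QuotientGroup.eq_one_iff c).2 hc, one_mul]
  haveI : Group.IsSolvable C := Group.isSolvable_of_comm fun a b => Subtype.ext (hCcomm a a.2 b b.2).eq
  exact Group.isSolvable_of_ker_le_range C.subtype (QuotientGroup.mk' C)
    (by rw [QuotientGroup.ker_mk', Subgroup.range_subtype])

end Cfsg.Lib.AutPGL34
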