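import Cfsg.Agent.Lib.AutPGL34.Identify

/-!
# The automorphisms of `PGL₃(4)` are those of `PSL₃(4)`
-/

set_option autoImplicit false
set_option linter.style.haveILetI false

namespace Cfsg.Lib.AutPGL34

open Subgroup Cfsg Cfsg.Lib Cfsg.Lib.Linear.AutPSL Matrix
open scoped MatrixGroups

variable {F : Type*} [Field F] [Fintype F]

theorem mulAut_pgl (hF : Fintype.card F = 4) :
    Nonempty (MulAut (ProjectiveSpecialLinearGroup (Fin 3) F) ≃* MulAut (GL (Fin 3) F ⧸ Subgroup.center (GL (Fin 3) F))) := by
  classical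
  haveI : Fact (Nat.Prime 2) := ⟨Nat.prime_two⟩
  haveI : Fact (Nat.Prime 3) := ⟨Nat.prime_three⟩
  haveI : Nontrivial (Fin 3) := inferInstance
  set P := ProjectiveSpecialLinearGroup (Fin 3) F with hP
  set R := (innd : GL (Fin 3) F →* MulAut P).range with hR
  haveI : R.Normal := Syl34.innd_range_normal 2 2 (by norm_num) (by rw [hF]; norm_num) (by norm_num)
  haveI : Finite (MulAut P) := Nat.finite_of_card_ne_zero (by rw [card_aut_psl34 hF]; norm_num)
  have eR : (GL (Fin 3) F ⧸ Subgroup.center (GL (Fin 3) F)) ≃* R :=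
    (QuotientGroup.quotientMulEquivOfEq (Syl34.innd_ker (n := 3) (F := F) (by norm_num)).symm).trans
      (QuotientGroup.quotientKerEquivRange (innd : GL (Fin 3) F →* MulAut P))
  have hconj : ∀ x : P, MulAut.conj x ∈ R := fun x => by
    obtain ⟨s, rfl⟩ := QuotientGroup.mk_surjective x
    exact ⟨SpecialLinearGroup.toGL s, (conj_mk s).symm⟩
  -- the centre of `PSL` is trivial
  have hcomm : commutator P = ⊤ := Cfsg.Lib.Linear.commutator_PSL_eq_top (by simp)
  haveI hsimp : IsSimpleGroup P := Cfsg.Lib.Linear.PSL_simple_of_three_le (by simp)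
  have hcen : Subgroup.center P = ⊥ := by
    rcases IsSimpleGroup.eq_bot_or_eq_top_of_normal (Subgroup.center P) inferInstance with h | h
    · exact h
    · exfalso
      have hbot : commutator P = ⊥ := by
        rw [commutator_def, eq_bot_iff, Subgroup.commutator_le]
        intro a _ b _
        rw [Subgroup.mem_bot, commutatorElement_eq_one_iff_mul_comm]
        exact (Subgroup.mem_center_iff.1 (h ▸ mem_top b) a)
      rw [hcomm] at hbot
      exact top_ne_bot hbot
  let cj : P →* R := (MulAut.conj : P →* MulAut P).codRestrict R hconj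
  have hcj : Function.Injective cj := by
    refine (injective_iff_map_eq_one _).2 fun x hx => ?_
    have : x ∈ Subgroup.center P := mem_center_iff.2 fun y => by
      have h := DFunLike.congr_fun (congrArg Subtype.val hx) y
      change x * y * x⁻¹ = y at h
      exact (mul_inv_eq_iff_eq_mul.1 h).symm
    rwa [hcen, mem_bot] at this
  have hR60 : Nat.card R = 60480 := by
    have h1 := Cfsg.Agent.S0813.result (F := F) 2 2 (by norm_num) (by rw [hF]; norm_num) 3 (by norm_num) (by norm_num)
    have h2 : Nat.card R = Nat.card (ProjGenLinGroup (Fin 3) F) := (Nat.card_congr eR.toEquiv).symm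
    rw [card_aut_psl34 hF, if_neg (by norm_num), ← h2] at h1
    omega
  have hP20 : Nat.card P = 20160 := by
    have h1 := Cfsg.Agent.S0813.result (F := F) 2 2 (by norm_num) (by rw [hF]; norm_num) 3 (by norm_num) (by norm_num)
    rw [card_aut_psl34 hF, if_neg (by norm_num), Cfsg.Lib.Linear.card_PGL_eq_card_SL,
      Cfsg.Lib.Linear.card_SL_eq_gcd_mul_card_PSL, hF] at h1
    have h3 : Nat.gcd (Fintype.card (Fin 3)) (4 - 1) = 3 := by simp
    rw [h3, ← hP] at h1
    omega
  set I : Subgroup R := cj.range with hI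
  have hIcard : Nat.card I = 20160 := by
    rw [hI, ← Nat.card_congr (MonoidHom.ofInjective hcj).toEquiv, hP20]
  have hIidx : I.index = 3 := by
    have := I.card_mul_index
    rw [hIcard, hR60] at this
    omega
  have hIn : I.Normal := ⟨fun x hx r => by
    obtain ⟨p, rfl⟩ := hx
    refine ⟨(r : MulAut P) p, Subtype.ext (MulEquiv.ext fun y => ?_)⟩
    show (r : MulAut P) p * y * ((r : MulAut P) p)⁻¹ = (r : MulAut P) (p * (r : MulAut P).symm y * p⁻¹)
    simp⟩
  haveI := hIn
  haveI : IsCyclic (R ⧸ I) := isCyclic_of_prime_card (p := 3) (by rw [← Subgroup.index_eq_card, hIidx])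
  letI : CommGroup (R ⧸ I) := IsCyclic.commGroup
  have hchar : ∀ (α : MulAut R) (x : P), α (cj x) ∈ I := fun α x => by
    let ψ : P →* R ⧸ I := ((QuotientGroup.mk' I).comp α.toMonoidHom).comp cj
    have hx : x ∈ ψ.ker := Abelianization.commutator_subset_ker ψ (hcomm ▸ mem_top x)
    exact (QuotientGroup.eq_one_iff _).1 (MonoidHom.mem_ker.1 hx)
  -- the map
  let Ψ : MulAut P →* MulAut R := MulAut.conjNormal (H := R)
  have hΨ : Function.Injective Ψ := by
    refine (injective_iff_map_eq_one _).2 fun β hβ => MulEquiv.ext fun x => ?_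
    have h := congrArg Subtype.val (DFunLike.congr_fun hβ ⟨MulAut.conj x, hconj x⟩)
    rw [MulAut.conjNormal_apply, MulAut.one_apply] at h
    have h2 : cj (β x) = cj x := by
      refine Subtype.ext (MulEquiv.ext fun y => ?_)
      have := DFunLike.congr_fun h y
      show β x * y * (β x)⁻¹ = x * y * x⁻¹
      change β (x * β.symm y * x⁻¹) = x * y * x⁻¹ at this
      simpa using this
    exact hcj h2
  haveI : Finite (MulAut R) := Finite.of_injective (fun α : MulAut R => (α : R → R)) DFunLike.coe_injective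
  -- restriction to the socle
  let eI : P ≃* I := MonoidHom.ofInjective hcj
  have hres : ∀ α : MulAut R, I.map α.toMonoidHom = I := fun α => by
    refine Subgroup.eq_of_le_of_card_ge ?_ (by rw [card_map_of_injective (K := I) (f := α.toMonoidHom) α.injective])
    rintro _ ⟨_, ⟨x, rfl⟩, rfl⟩
    exact hchar α x
  let res : MulAut R → MulAut P := fun α =>
    (eI.trans ((I.equivMapOfInjective α.toMonoidHom α.injective).trans (MulEquiv.subgroupCongr (hres α)))).trans eI.symm
  have hres_apply : ∀ α x, cj (res α x) = α (cj x) := fun α x =>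
    congrArg Subtype.val (eI.apply_symm_apply ((MulEquiv.subgroupCongr (hres α))
      ((I.equivMapOfInjective α.toMonoidHom α.injective) (eI x))))
  have hinj : Function.Injective res := by
    intro α β hab
    refine MulEquiv.ext fun r => ?_
    have hagree : ∀ x, α (cj x) = β (cj x) := fun x => by rw [← hres_apply, ← hres_apply, hab]
    have hc : ∀ x, Commute ((β r)⁻¹ * α r) (β (cj x)) := fun x => by
      obtain ⟨y, hy⟩ : r * cj x * r⁻¹ ∈ I := hIn.conj_mem _ ⟨x, rfl⟩ r
      have h1 : α r * β (cj x) * (α r)⁻¹ = β r * β (cj x) * (β r)⁻¹ := by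
        calc α r * β (cj x) * (α r)⁻¹ = α r * α (cj x) * (α r)⁻¹ := by rw [hagree x]
          _ = α (cj y) := by rw [hy, map_mul, map_mul, map_inv]
          _ = β (cj y) := hagree y
          _ = _ := by rw [hy, map_mul, map_mul, map_inv]
      show (β r)⁻¹ * α r * β (cj x) = β (cj x) * ((β r)⁻¹ * α r)
      calc (β r)⁻¹ * α r * β (cj x) = (β r)⁻¹ * (α r * β (cj x) * (α r)⁻¹) * α r := by group
        _ = _ := by rw [h1]; group
    -- an element centralising the socle is trivial
    suffices h : (β r)⁻¹ * α r = 1 from (inv_mul_eq_one.1 h).symm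
    set k := (β r)⁻¹ * α r
    refine Subtype.ext (MulEquiv.ext fun p => ?_)
    obtain ⟨x, hx⟩ : ∃ x, β (cj x) = cj p := by
      have hm : cj p ∈ I.map β.toMonoidHom := (hres β).symm ▸ ⟨p, rfl⟩
      obtain ⟨_, ⟨x, rfl⟩, hx⟩ := hm
      exact ⟨x, hx⟩
    have h := hc x
    rw [hx] at h
    have h' : cj ((k : MulAut P) p) = cj p := by
      have h2 : k * cj p * k⁻¹ = cj p := by rw [h.eq, mul_inv_cancel_right]
      refine Subtype.ext (MulEquiv.ext fun y => ?_)
      have h3 := DFunLike.congr_fun (congrArg Subtype.val h2) y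
      change (k : MulAut P) (p * (k : MulAut P).symm y * p⁻¹) = p * y * p⁻¹ at h3
      show (k : MulAut P) p * y * ((k : MulAut P) p)⁻¹ = p * y * p⁻¹
      simpa using h3
    exact hcj h'
  have hle := Nat.card_le_card_of_injective res hinj
  have hbij : Function.Bijective Ψ :=
    (Nat.bijective_iff_injective_and_card Ψ).2 ⟨hΨ, le_antisymm (Nat.card_le_card_of_injective Ψ hΨ) hle⟩
  exact ⟨(MulEquiv.ofBijective Ψ hbij).trans (MulAut.congr eR.symm)⟩

end Cfsg.Lib.AutPGL34
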