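import Cfsg.Agent.Lib.AutPGL34.Clifford
import Cfsg.Agent.Lib.Dickson.Solvable

/-!
# The five singular points of the extraspecial group and the action on them
-/

set_option autoImplicit false
set_option linter.style.haveILetI false

namespace Cfsg.Lib.AutPGL34

open Subgroup

/-- The singular vectors: the complements of the four unit vectors and the sum of all. -/
def pv (k : Fin 5) : ℕ := [14, 13, 11, 7, 15].getD k.1 0

/-- The new frame for a point. -/
def newV (k : Fin 5) (j : ℕ) : ℕ :=
  let o := ((List.finRange 5).filter fun i => i != k).getD j k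
  emul (pv k) (pv o)

theorem pv_lt : ∀ k : Fin 5, pv k < 16 ∧ pv k ≠ 0 ∧ emul (pv k) (pv k) = 0 := by decide +kernel

theorem pv_inj : ∀ k l : Fin 5, pv k = pv l → k = l := by decide +kernel

theorem sing_cases : ∀ v < 32, emul v v = 0 → v % 16 = 0 ∨ ∃ k : Fin 5, v % 16 = pv k := by decide +kernel

theorem newV_facts : ∀ k : Fin 5, ∀ j < 4, newV k j < 32 ∧ emul (newV k j) (newV k j) = 16 ∧
    (∀ i < j, emul (newV k j) (newV k i) = 16 ^^^ emul (newV k i) (newV k j)) ∧
    ((eList 15).foldl (fun a i => emul a (newV k i)) 0) % 16 = pv k := by decide +kernel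

theorem elE_inv : ∀ v < 32, ∃ w < 32, emul v w = 0 := by decide +kernel

theorem emul_eq_zero : ∀ v < 32, ∀ w < 32, ∀ u < 32, emul w u = 0 → emul v u = 0 → v = w := by decide +kernel

theorem moved : ∀ v < 32, v % 16 ≠ 0 → ∃ j < 4, emul (2 ^ j) v = 16 ^^^ emul v (2 ^ j) := by decide +kernel

theorem inner_sign : ∀ χ < 16, ∃ u < 32, ∀ j < 4,
    emul u (2 ^ j) = (16 * (χ / 2 ^ j % 2)) ^^^ emul (2 ^ j) u := by decide +kernel

theorem unit_as_points : ∀ j < 4, ∃ k : Fin 5, emul 15 (pv k) % 16 = 2 ^ j := by decide +kernel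

variable {K : Type*} [Group K]

/-- The hypotheses on the normal extraspecial subgroup. -/
structure Base (E : Subgroup K) (z : K) : Prop where
  zne : z ≠ 1
  zsq : z * z = 1
  zmem : z ∈ E
  zc : ∀ x, x * z = z * x
  card : Nat.card E = 32
  norm : E.Normal
  cent : centralizer (E : Set K) ≤ E

variable [Finite K] {E : Subgroup K} {z : K} {e : ℕ → K}

omit [Finite K] in
theorem Base.cl (B : Base E z) (q : Quad E z e) : Cl z e := ⟨B.zsq, B.zc, q.esq, q.anti⟩

omit [Finite K] in
theorem elE_mem (B : Base E z) (q : Quad E z e) (v : ℕ) : elE z e v ∈ E := by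
  refine mul_mem (pow_mem B.zmem _) (list_prod_mem fun x hx => ?_)
  obtain ⟨j, hj, rfl⟩ := List.mem_map.1 hx
  exact q.mem j (List.mem_range.1 (List.mem_filter.1 hj).1)

omit [Finite K] in
theorem elE_small : elE z e 0 = 1 ∧ elE z e 16 = z ∧ ∀ j < 4, elE z e (2 ^ j) = e j := by
  refine ⟨by simp [elE, eList, List.range_succ], by simp [elE, eList, List.range_succ], fun j hj => ?_⟩
  interval_cases j <;> simp [elE, eList, List.range_succ]

omit [Finite K] in
theorem elE_ne_one (B : Base E z) (q : Quad E z e) {v : ℕ} (hv : v < 32) (h : elE z e v = 1) : v = 0 := by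
  by_cases h16 : v % 16 = 0
  · obtain rfl | rfl : v = 0 ∨ v = 16 := by omega
    · rfl
    · exact absurd (elE_small.2.1.symm.trans h) B.zne
  · exfalso
    obtain ⟨j, hj, hm⟩ := moved v hv h16
    have R := B.cl q
    have hp : 2 ^ j < 32 := by interval_cases j <;> norm_num
    have h1 := R.elE_mul hp hv
    have h2 := R.elE_mul hv hp
    have he := emul_lt v hv _ hp
    rw [h, mul_one] at h1
    rw [h, one_mul] at h2
    rw [hm, Nat.xor_comm, show (16 : ℕ) = 16 * 1 by norm_num, R.elE_sgn he (by norm_num), pow_one,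
      ← h2] at h1
    exact B.zne (mul_eq_right.1 h1.symm)

omit [Finite K] in
theorem elE_inj (B : Base E z) (q : Quad E z e) {v w : ℕ} (hv : v < 32) (hw : w < 32)
    (h : elE z e v = elE z e w) : v = w := by
  obtain ⟨u, hu, hwu⟩ := elE_inv w hw
  refine emul_eq_zero v hv w hw u hu hwu (elE_ne_one B q (emul_lt v hv u hu) ?_)
  rw [← (B.cl q).elE_mul hv hu, h, (B.cl q).elE_mul hw hu, hwu, elE_small.1]

theorem elE_surj (B : Base E z) (q : Quad E z e) {x : K} (hx : x ∈ E) : ∃ v < 32, elE z e v = x := by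
  have hbij : Function.Bijective fun v : Fin 32 => (⟨elE z e v, elE_mem B q v⟩ : E) := by
    rw [Nat.bijective_iff_injective_and_card]
    exact ⟨fun a b h => Fin.ext (elE_inj B q a.2 b.2 (congrArg Subtype.val h)), by rw [Nat.card_fin, B.card]⟩
  obtain ⟨v, hv⟩ := hbij.2 ⟨x, hx⟩
  exact ⟨v, v.2, congrArg Subtype.val hv⟩

/-- The element of a point. -/
abbrev pel (z : K) (e : ℕ → K) (k : Fin 5) : K := elE z e (pv k)

/-- The point `l` is the image of `k`. -/
def MapsTo' (z : K) (e : ℕ → K) (h : K) (k l : Fin 5) : Prop :=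
  h * pel z e k * h⁻¹ = pel z e l ∨ h * pel z e k * h⁻¹ = z * pel z e l

omit [Finite K] in
theorem pel_sep (B : Base E z) (q : Quad E z e) {k l : Fin 5}
    (h : pel z e k = pel z e l ∨ pel z e k = z * pel z e l) : k = l := by
  have hk := (pv_lt k).1; have hl := (pv_lt l).1
  rcases h with h | h
  · exact pv_inj k l (elE_inj B q (by omega) (by omega) h)
  · rw [pel, pel, show z * elE z e (pv l) = elE z e (pv l ^^^ (16 * 1)) by
      rw [(B.cl q).elE_sgn (by omega) (by norm_num), pow_one]] at h
    have h1 := elE_inj B q (by omega) (show pv l ^^^ (16 * 1) < 32 by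
      exact Nat.xor_lt_two_pow (n := 5) (by omega) (by norm_num)) h
    have h2 : pv k % 16 = (pv l ^^^ (16 * 1)) % 16 := congrArg (· % 16) h1
    rw [Nat.mod_eq_of_lt hk, show (16 : ℕ) = 2 ^ 4 from rfl, Nat.xor_mod_two_pow] at h2
    exact pv_inj k l (h2.trans (by norm_num [Nat.mod_eq_of_lt hl]))

theorem exists_image (B : Base E z) (q : Quad E z e) (h : K) (k : Fin 5) : ∃ l, MapsTo' z e h k l := by
  have hx : h * pel z e k * h⁻¹ ∈ E := B.norm.conj_mem _ (elE_mem B q _) h
  obtain ⟨v, hv, hve⟩ := elE_surj B q hx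
  obtain ⟨hk, hk0, hksq⟩ := pv_lt k
  have hsq : elE z e v * elE z e v = 1 := by
    have e1 : h * pel z e k * h⁻¹ * (h * pel z e k * h⁻¹) = h * (pel z e k * pel z e k) * h⁻¹ := by group
    rw [hve, e1, pel, (B.cl q).elE_mul (by omega) (by omega), hksq, elE_small.1]
    group
  rw [(B.cl q).elE_mul hv hv] at hsq
  have hvv := elE_ne_one B q (emul_lt v hv v hv) hsq
  rcases sing_cases v hv hvv with h0 | ⟨l, hl⟩
  · exfalso
    obtain rfl | rfl : v = 0 ∨ v = 16 := by omega
    · rw [elE_small.1] at hve
      refine hk0 (elE_inj B q (by omega) (by norm_num) ?_)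
      rw [elE_small.1]
      exact conj_eq_one_iff.1 hve.symm
    · rw [elE_small.2.1] at hve
      have e2 : pel z e k = z := by
        calc pel z e k = h⁻¹ * (h * pel z e k * h⁻¹) * h := by group
          _ = z := by rw [← hve, mul_assoc, ← B.zc h, inv_mul_cancel_left]
      exact absurd (elE_inj B q (by omega) (by norm_num) (e2.trans elE_small.2.1.symm)) (by omega)
  · refine ⟨l, ?_⟩
    have hv' : v = pv l ∨ v = pv l + 16 := by omega
    rcases hv' with rfl | rfl
    · exact Or.inl hve.symm
    · refine Or.inr (hve.symm.trans ?_)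
      have hl16 := (pv_lt l).1
      have : pv l + 16 = pv l ^^^ (16 * 1) := by
        revert hl16; generalize pv l = w; intro hw; interval_cases w <;> rfl
      rw [this, (B.cl q).elE_sgn (by omega) (by norm_num), pow_one]

theorem image_unique (B : Base E z) (q : Quad E z e) {h : K} {k l l' : Fin 5} (h1 : MapsTo' z e h k l)
    (h2 : MapsTo' z e h k l') : l = l' := by
  have hzz : ∀ x, z * (z * x) = x := fun x => by rw [← mul_assoc, B.zsq, one_mul]
  refine pel_sep B q ?_
  rcases h1 with h1 | h1 <;> rcases h2 with h2 | h2 <;> rw [h1] at h2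
  · exact Or.inl h2
  · exact Or.inr h2
  · exact Or.inr (by rw [← h2, hzz])
  · exact Or.inl (mul_left_cancel h2)

/-- The image of a point. -/
noncomputable def img (B : Base E z) (q : Quad E z e) (h : K) (k : Fin 5) : Fin 5 :=
  (exists_image B q h k).choose

theorem img_spec (B : Base E z) (q : Quad E z e) (h : K) (k : Fin 5) : MapsTo' z e h k (img B q h k) :=
  (exists_image B q h k).choose_spec

theorem img_mul (B : Base E z) (q : Quad E z e) (g h : K) (k : Fin 5) :
    img B q (g * h) k = img B q g (img B q h k) := by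
  refine image_unique B q (img_spec B q (g * h) k) ?_
  have e1 : g * h * pel z e k * (g * h)⁻¹ = g * (h * pel z e k * h⁻¹) * g⁻¹ := by group
  have hgz : ∀ x, g * (z * x) * g⁻¹ = z * (g * x * g⁻¹) := fun x => by
    rw [← mul_assoc, B.zc g]; simp only [mul_assoc]
  have hzz : ∀ x, z * (z * x) = x := fun x => by rw [← mul_assoc, B.zsq, one_mul]
  unfold MapsTo'
  rw [e1]
  rcases img_spec B q h k with h1 | h1 <;> rcases img_spec B q g (img B q h k) with h2 | h2 <;> rw [h1]
  · exact Or.inl h2
  · exact Or.inr h2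
  · exact Or.inr (by rw [hgz, h2])
  · exact Or.inl (by rw [hgz, h2, hzz])

theorem img_one (B : Base E z) (q : Quad E z e) (k : Fin 5) : img B q 1 k = k :=
  image_unique B q (img_spec B q 1 k) (Or.inl (by group))

/-- The action on the five points. -/
noncomputable def rho (B : Base E z) (q : Quad E z e) : K →* Equiv.Perm (Fin 5) where
  toFun h := ⟨img B q h, img B q h⁻¹, fun k => by rw [← img_mul, inv_mul_cancel, img_one],
    fun k => by rw [← img_mul, mul_inv_cancel, img_one]⟩
  map_one' := Equiv.ext fun k => img_one B q k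
  map_mul' g h := Equiv.ext fun k => img_mul B q g h k

theorem rho_spec (B : Base E z) (q : Quad E z e) (h : K) (k : Fin 5) :
    MapsTo' z e h k (rho B q h k) := img_spec B q h k

theorem rho_eq (B : Base E z) (q : Quad E z e) {h : K} {k l : Fin 5} (hl : MapsTo' z e h k l) :
    rho B q h k = l := image_unique B q (img_spec B q h k) hl

/-- An element sending each root to itself up to sign is in `E`. -/
theorem mem_of_signs (B : Base E z) (q : Quad E z e) {h : K}
    (hh : ∀ j < 4, h * e j * h⁻¹ = e j ∨ h * e j * h⁻¹ = z * e j) : h ∈ E := by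
  classical
  let χ := (if h * e 0 * h⁻¹ = e 0 then 0 else 1) + (if h * e 1 * h⁻¹ = e 1 then 0 else 2) +
    (if h * e 2 * h⁻¹ = e 2 then 0 else 4) + (if h * e 3 * h⁻¹ = e 3 then 0 else 8)
  have hχ : χ < 16 := by simp only [χ]; split_ifs <;> norm_num
  obtain ⟨u, hu, hue⟩ := inner_sign χ hχ
  have R := B.cl q
  have hcomm : ∀ j < 4, elE z e u * e j * (elE z e u)⁻¹ = h * e j * h⁻¹ := by
    intro j hj
    have hp : 2 ^ j < 32 := by interval_cases j <;> norm_num
    have h1 := R.elE_mul hu hp
    rw [hue j hj, Nat.xor_comm, R.elE_sgn (emul_lt _ hp u hu) (Nat.mod_lt _ (by norm_num)),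
      ← R.elE_mul hp hu, elE_small.2.2 j hj] at h1
    rw [mul_inv_eq_iff_eq_mul, h1, ← mul_assoc]
    congr 1
    have hb : χ / 2 ^ j % 2 = if h * e j * h⁻¹ = e j then 0 else 1 := by
      interval_cases j <;> simp only [χ] <;> split_ifs <;> norm_num
    rw [hb]
    split_ifs with hc
    · rw [pow_zero, one_mul, hc]
    · rw [pow_one, (hh j hj).resolve_left hc]
  have hc : (elE z e u)⁻¹ * h ∈ centralizer (E : Set K) := by
    refine mem_centralizer_iff.2 fun x hx => ?_
    obtain ⟨v, hv, rfl⟩ := elE_surj B q hx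
    set c := (elE z e u)⁻¹ * h
    show elE z e v * c = c * elE z e v
    have hz' : Commute c z := B.zc c
    have hj : ∀ j < 4, Commute c (e j) := fun j hj => by
      show c * e j = e j * c
      calc c * e j = (elE z e u)⁻¹ * (h * e j * h⁻¹) * h := by simp only [c]; group
        _ = e j * c := by rw [← hcomm j hj]; simp only [c]; group
    refine Eq.symm ((hz'.pow_right _).mul_right ?_)
    exact Commute.list_prod_right _ _ fun x hx => by
      obtain ⟨j, hj', rfl⟩ := List.mem_map.1 hx
      exact hj j (List.mem_range.1 (List.mem_filter.1 hj').1)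
  have := mul_mem (elE_mem B q u) (B.cent hc)
  rwa [mul_inv_cancel_left] at this

theorem comm_E (B : Base E z) (q : Quad E z e) {a b : K} (ha : a ∈ E) (hb : b ∈ E) :
    a * b * a⁻¹ = b ∨ a * b * a⁻¹ = z * b := by
  obtain ⟨v, hv, rfl⟩ := elE_surj B q ha
  obtain ⟨w, hw, rfl⟩ := elE_surj B q hb
  have key : ∀ v < 32, ∀ w < 32, emul v w = emul w v ∨ emul v w = emul w v ^^^ (16 * 1) := by decide +kernel
  have R := B.cl q
  simp only [mul_inv_eq_iff_eq_mul]
  rcases key v hv w hw with h | h
  · exact Or.inl (by rw [R.elE_mul hv hw, h, R.elE_mul hw hv])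
  · exact Or.inr (by
      rw [R.elE_mul hv hw, h, R.elE_sgn (emul_lt _ hw _ hv) (by norm_num), pow_one, mul_assoc,
        R.elE_mul hw hv])

theorem rho_ker (B : Base E z) (q : Quad E z e) : (rho B q).ker = E := by
  refine le_antisymm (fun h hh => mem_of_signs B q fun j hj => ?_) fun h hh => ?_
  · have hfix : ∀ k, MapsTo' z e h k k := fun k => by
      have := rho_spec B q h k
      rwa [MonoidHom.mem_ker.1 hh, Equiv.Perm.one_apply] at this
    obtain ⟨k, hk⟩ := unit_as_points j hj
    have R := B.cl q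
    obtain ⟨hk16, -, -⟩ := pv_lt k
    have hm := R.elE_mul (v := pv 4) (u := pv k) (by decide) (by omega)
    have hlt := emul_lt 15 (by norm_num) (pv k) (by omega)
    have hzz : ∀ x, z * (z * x) = x := fun x => by rw [← mul_assoc, B.zsq, one_mul]
    have hej : e j = pel z e 4 * pel z e k ∨ e j = z * (pel z e 4 * pel z e k) := by
      have h' : emul 15 (pv k) = 2 ^ j ∨ emul 15 (pv k) = 2 ^ j + 16 := by omega
      rw [pel, pel, hm, show pv 4 = 15 from rfl]
      rcases h' with h' | h'
      · exact Or.inl (by rw [h', elE_small.2.2 j hj])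
      · refine Or.inr ?_
        rw [h', show 2 ^ j + 16 = 2 ^ j ^^^ (16 * 1) by interval_cases j <;> rfl,
          R.elE_sgn (by interval_cases j <;> norm_num) (by norm_num), elE_small.2.2 j hj, pow_one, hzz]
    have hprod : h * (pel z e 4 * pel z e k) * h⁻¹ = pel z e 4 * pel z e k ∨
        h * (pel z e 4 * pel z e k) * h⁻¹ = z * (pel z e 4 * pel z e k) := by
      have e1 : h * (pel z e 4 * pel z e k) * h⁻¹ = h * pel z e 4 * h⁻¹ * (h * pel z e k * h⁻¹) := by group
      rw [e1]
      rcases hfix 4 with a | a <;> rcases hfix k with b | b <;> rw [a, b]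
      · exact Or.inl rfl
      · exact Or.inr (by rw [← mul_assoc, B.zc, mul_assoc])
      · exact Or.inr (mul_assoc _ _ _)
      · exact Or.inl (by
          rw [mul_assoc, ← mul_assoc (pel z e 4), B.zc (pel z e 4), mul_assoc, hzz])
    have hgz : ∀ x, h * (z * x) * h⁻¹ = z * (h * x * h⁻¹) := fun x => by
      rw [← mul_assoc, B.zc h]; simp only [mul_assoc]
    rcases hej with h1 | h1 <;> rw [h1]
    · exact hprod
    · rw [hgz]
      exact hprod.imp (fun a => by rw [a]) fun a => by rw [a]
  · refine MonoidHom.mem_ker.2 (Equiv.ext fun k => ?_)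
    exact rho_eq B q (comm_E B q hh (elE_mem B q _))

end Cfsg.Lib.AutPGL34
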