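import Cfsg.Agent.Lib.AutPGL34.Tables

/-!
# The model maps to a group with the generators and relations
-/

set_option autoImplicit false

namespace Cfsg.Lib.AutPGL34

variable {H : Type*} [Group H]

/-- The power of `z` of a boolean. -/
def zp (z : H) (b : Bool) : H := if b then z else 1

/-- Anticommuting square roots of a central involution. -/
structure Cl (z : H) (e : ℕ → H) : Prop where
  zsq : z * z = 1
  zc : ∀ x, x * z = z * x
  esq : ∀ i < 4, e i * e i = z
  anti : ∀ i < 4, ∀ j < i, e i * e j = z * (e j * e i)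

/-- The generators and their relations. -/
structure Rels (z : H) (al be : Bool) (e s : ℕ → H) : Prop extends Cl z e where
  ssq : ∀ k < 3, s k * s k = zp z al
  act : ∀ k < 3, ∀ j < 4, s k * e j = z * (e (tp k j) * s k)
  braid : ∀ k < 2, s (k + 1) * (s k * s (k + 1)) = zp z al * (s k * (s (k + 1) * s k))
  disj : s 2 * s 0 = zp z be * (s 0 * s 2)

/-- The Clifford element of a vector. -/
def elE (z : H) (e : ℕ → H) (v : ℕ) : H := z ^ (v / 16 % 2) * ((eList v).map e).prod

/-- The element of a word. -/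
def elW (s : ℕ → H) (i : ℕ) : H := ((word i).map s).prod

/-- The image of an element of the model. -/
def el (z : H) (e s : ℕ → H) (x : ℕ × ℕ) : H := elE z e x.1 * elW s x.2

/-- The sign of a word entry. -/
def elT (z : H) (al be : Bool) (t : ℕ) : H := zp z al ^ (t / 32 % 2) * zp z be ^ (t / 64 % 2)

namespace Cl

variable {z : H} {e : ℕ → H} (R : Cl z e)
include R

theorem zz (x : H) : z * (z * x) = x := by rw [← mul_assoc, R.zsq, one_mul]

theorem mz (a x : H) : a * (z * x) = z * (a * x) := by rw [← mul_assoc, R.zc, mul_assoc]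

theorem esqx (i : ℕ) (hi : i < 4) (x : H) : e i * (e i * x) = z * x := by rw [← mul_assoc, R.esq i hi]

theorem antix (i : ℕ) (hi : i < 4) (j : ℕ) (hj : j < i) (x : H) : e i * (e j * x) = z * (e j * (e i * x)) := by
  rw [← mul_assoc, R.anti i hi j hj, mul_assoc, mul_assoc]

theorem elE_step {v : ℕ} (hv : v < 32) {j : ℕ} (hj : j < 4) :
    elE z e v * e j = elE z e (emul v (2 ^ j)) := by
  have h10 := R.antix 1 (by norm_num) 0 (by norm_num)
  have h20 := R.antix 2 (by norm_num) 0 (by norm_num)
  have h21 := R.antix 2 (by norm_num) 1 (by norm_num)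
  have h30 := R.antix 3 (by norm_num) 0 (by norm_num)
  have h31 := R.antix 3 (by norm_num) 1 (by norm_num)
  have h32 := R.antix 3 (by norm_num) 2 (by norm_num)
  have q0 := R.esq 0 (by norm_num); have q1 := R.esq 1 (by norm_num)
  have q2 := R.esq 2 (by norm_num); have q3 := R.esq 3 (by norm_num)
  have p0 := R.esqx 0 (by norm_num); have p1 := R.esqx 1 (by norm_num)
  have p2 := R.esqx 2 (by norm_num); have p3 := R.esqx 3 (by norm_num)
  have a10 := R.anti 1 (by norm_num) 0 (by norm_num)
  have a20 := R.anti 2 (by norm_num) 0 (by norm_num)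
  have a21 := R.anti 2 (by norm_num) 1 (by norm_num)
  have a30 := R.anti 3 (by norm_num) 0 (by norm_num)
  have a31 := R.anti 3 (by norm_num) 1 (by norm_num)
  have a32 := R.anti 3 (by norm_num) 2 (by norm_num)
  interval_cases j <;> interval_cases v <;>
    simp [elE, eList, emul, ent, eTab, List.range_succ, mul_assoc, R.zsq, R.zz, R.mz, R.zc (e 0), R.zc (e 1),
      R.zc (e 2), R.zc (e 3), h10, h20, h21, h30, h31, h32, q0, q1, q2, q3, p0, p1, p2, p3, a10, a20, a21,
      a30, a31, a32]

theorem elE_fold : ∀ (L : List ℕ) {v : ℕ}, v < 32 → (∀ j ∈ L, j < 4) →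
    elE z e v * (L.map e).prod = elE z e (eFold v L) ∧ eFold v L < 32
  | [], v, hv, _ => by simp [eFold, hv]
  | j :: L, v, hv, hL => by
    have hj := hL j (List.mem_cons_self ..)
    have hp : 2 ^ j < 32 := by interval_cases j <;> norm_num
    obtain ⟨h1, h2⟩ := elE_fold L (emul_lt v hv _ hp) fun k hk => hL k (List.mem_cons_of_mem _ hk)
    rw [List.map_cons, List.prod_cons, ← mul_assoc, R.elE_step hv hj, h1]
    exact ⟨rfl, h2⟩

theorem zpow_two_mod (p q : ℕ) : z ^ ((p + q) % 2) = z ^ p * z ^ q := by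
  rw [← pow_add]
  conv_rhs => rw [← Nat.mod_add_div (p + q) 2, pow_add, pow_mul, pow_two, R.zsq, one_pow, mul_one]

theorem elE_sgn {v : ℕ} (hv : v < 32) {a : ℕ} (ha : a < 2) :
    elE z e (v ^^^ (16 * a)) = z ^ a * elE z e v := by
  interval_cases a <;> interval_cases v <;>
    simp [elE, eList, List.range_succ, R.zsq, R.zz]

theorem elE_mul {v u : ℕ} (hv : v < 32) (hu : u < 32) :
    elE z e v * elE z e u = elE z e (emul v u) := by
  have hL : ∀ j ∈ eList u, j < 4 := fun j hj => List.mem_range.1 (List.mem_filter.1 hj).1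
  obtain ⟨h1, h2⟩ := R.elE_fold (eList u) hv hL
  rw [emul_fold v hv u hu, show u / 16 * 16 = 16 * (u / 16) by omega, R.elE_sgn h2 (by omega), ← h1]
  conv_lhs => rw [elE.eq_def z e u, ← mul_assoc, show u / 16 % 2 = u / 16 by omega]
  rw [← mul_assoc (z ^ (u / 16)), ← ((show Commute (elE z e v) z from R.zc _).pow_right _).eq]

end Cl

namespace Rels

variable {z : H} {al be : Bool} {e s : ℕ → H} (R : Rels z al be e s)
include R

theorem pc (b : Bool) (x : H) : x * zp z b = zp z b * x := by
  cases b
  · simp [zp]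
  · simpa [zp] using R.zc x

theorem pp (b : Bool) : zp z b * zp z b = 1 := by
  cases b
  · simp [zp]
  · simpa [zp] using R.zsq

theorem ppx (b : Bool) (x : H) : zp z b * (zp z b * x) = x := by rw [← mul_assoc, R.pp, one_mul]

theorem mp (b : Bool) (a x : H) : a * (zp z b * x) = zp z b * (a * x) := by
  rw [← mul_assoc, R.pc, mul_assoc]

theorem actx (k : ℕ) (hk : k < 3) (j : ℕ) (hj : j < 4) (x : H) :
    s k * (e j * x) = z * (e (tp k j) * (s k * x)) := by
  rw [← mul_assoc, R.act k hk j hj, mul_assoc, mul_assoc]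

theorem ssqx (k : ℕ) (hk : k < 3) (x : H) : s k * (s k * x) = zp z al * x := by rw [← mul_assoc, R.ssq k hk]

theorem braidx (k : ℕ) (hk : k < 2) (x : H) :
    s (k + 1) * (s k * (s (k + 1) * x)) = zp z al * (s k * (s (k + 1) * (s k * x))) := by
  have h := congrArg (fun y => y * x) (R.braid k hk)
  simpa only [mul_assoc] using h

theorem disjx (x : H) : s 2 * (s 0 * x) = zp z be * (s 0 * (s 2 * x)) := by
  rw [← mul_assoc, R.disj, mul_assoc, mul_assoc]

theorem long : s 2 * (s 1 * (s 0 * s 2)) = zp z al * (zp z be * (s 1 * (s 2 * (s 1 * s 0)))) := by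
  rw [show s 0 * s 2 = zp z be * (s 2 * s 0) by rw [R.disj, R.ppx], R.mp be (s 1), R.mp be (s 2),
    R.braidx 1 (by norm_num), R.mp al (zp z be)]

theorem longx (x : H) :
    s 2 * (s 1 * (s 0 * (s 2 * x))) = zp z al * (zp z be * (s 1 * (s 2 * (s 1 * (s 0 * x))))) := by
  have h := congrArg (fun y => y * x) R.long
  simpa only [mul_assoc] using h

theorem ppcomm : zp z be * zp z al = zp z al * zp z be := R.pc al _

end Rels

end Cfsg.Lib.AutPGL34
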