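import Cfsg.Agent.Lib.AutPGL34.Rels

/-!
# The multiplication formula
-/

set_option autoImplicit false
set_option maxHeartbeats 2000000
set_option linter.unusedSimpArgs false

namespace Cfsg.Lib.AutPGL34

namespace Rels

variable {H : Type*} [Group H] {z : H} {al be : Bool} {e s : ℕ → H} (R : Rels z al be e s)
include R

theorem act_elE {k : ℕ} (hk : k < 3) {u : ℕ} (hu : u < 32) :
    s k * elE z e u = elE z e (sAct k u) * s k := by
  have h10 := R.antix 1 (by norm_num) 0 (by norm_num)
  have h20 := R.antix 2 (by norm_num) 0 (by norm_num)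
  have h21 := R.antix 2 (by norm_num) 1 (by norm_num)
  have h30 := R.antix 3 (by norm_num) 0 (by norm_num)
  have h31 := R.antix 3 (by norm_num) 1 (by norm_num)
  have h32 := R.antix 3 (by norm_num) 2 (by norm_num)
  have t0 := R.actx k hk 0 (by norm_num); have t1 := R.actx k hk 1 (by norm_num)
  have t2 := R.actx k hk 2 (by norm_num); have t3 := R.actx k hk 3 (by norm_num)
  have u0 := R.act k hk 0 (by norm_num); have u1 := R.act k hk 1 (by norm_num)
  have u2 := R.act k hk 2 (by norm_num); have u3 := R.act k hk 3 (by norm_num)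
  interval_cases k <;> simp only [tp] at t0 t1 t2 t3 u0 u1 u2 u3 <;>
    norm_num at t0 t1 t2 t3 u0 u1 u2 u3 <;> interval_cases u <;>
    simp [elE, eList, sAct, tp, emul, ent, eTab, List.range_succ, mul_assoc, R.zsq, R.zz, R.mz, R.zc (e 0),
      R.zc (e 1), R.zc (e 2), R.zc (e 3), R.zc (s 0), R.zc (s 1), R.zc (s 2), h10, h20, h21, h30, h31, h32,
      t0, t1, t2, t3, u0, u1, u2, u3]

theorem elW_step {i : ℕ} (hi : i < 24) {k : ℕ} (hk : k < 3) :
    elW s i * s k = elT z al be (ent sTab 7 (i * 3 + k)) * elW s (ent sTab 7 (i * 3 + k) % 32) := by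
  have b0 := R.braid 0 (by norm_num); have b1 := R.braid 1 (by norm_num)
  have c0 := R.braidx 0 (by norm_num); have c1 := R.braidx 1 (by norm_num)
  have q0 := R.ssq 0 (by norm_num); have q1 := R.ssq 1 (by norm_num); have q2 := R.ssq 2 (by norm_num)
  have p0 := R.ssqx 0 (by norm_num); have p1 := R.ssqx 1 (by norm_num); have p2 := R.ssqx 2 (by norm_num)
  simp only [Nat.reduceAdd] at b0 b1 c0 c1
  interval_cases k <;> interval_cases i <;>
    simp [elT, elW, word, ent, sTab, mul_assoc, b0, b1, c0, c1, q0, q1, q2, p0, p1, p2, R.disj, R.disjx,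
      R.long, R.longx, R.mp al (s 0), R.mp al (s 1), R.mp al (s 2), R.mp be (s 0), R.mp be (s 1), R.mp be (s 2),
      R.mp al (zp z be), R.pp, R.ppx, R.pc al (s 0), R.pc al (s 1), R.pc al (s 2), R.pc be (s 0), R.pc be (s 1),
      R.pc be (s 2), R.ppcomm]

theorem elT_mul (a b : ℕ) (c : ℕ) :
    elT z al be (c + 32 * ((a / 32 % 2 + b / 32 % 2) % 2) + 64 * ((a / 64 % 2 + b / 64 % 2) % 2)) =
      elT z al be a * elT z al be b ∨ 32 ≤ c := by
  by_cases hc : c < 32
  · left
    have hpow : ∀ (w : H), w * w = 1 → ∀ p q : ℕ, w ^ ((p + q) % 2) = w ^ p * w ^ q := by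
      intro w hw p q
      rw [← pow_add]
      conv_rhs => rw [← Nat.mod_add_div (p + q) 2, pow_add, pow_mul, pow_two, hw, one_pow, mul_one]
    have h1 : (c + 32 * ((a / 32 % 2 + b / 32 % 2) % 2) + 64 * ((a / 64 % 2 + b / 64 % 2) % 2)) / 32 % 2 =
        (a / 32 % 2 + b / 32 % 2) % 2 := by omega
    have h2 : (c + 32 * ((a / 32 % 2 + b / 32 % 2) % 2) + 64 * ((a / 64 % 2 + b / 64 % 2) % 2)) / 64 % 2 =
        (a / 64 % 2 + b / 64 % 2) % 2 := by omega
    rw [elT, elT, elT, h1, h2, hpow _ (R.pp al), hpow _ (R.pp be), mul_mul_mul_comm']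
  · exact Or.inr (le_of_not_gt hc)
where
  mul_mul_mul_comm' {p q : ℕ} {r t : ℕ} : zp z al ^ p * zp z al ^ q * (zp z be ^ r * zp z be ^ t) =
      zp z al ^ p * zp z be ^ r * (zp z al ^ q * zp z be ^ t) :=
    (Commute.pow_pow (show Commute (zp z al) (zp z be) from R.pc be _) q r).mul_mul_mul_comm _ _

theorem elT_comm (t : ℕ) (x : H) : x * elT z al be t = elT z al be t * x := by
  show Commute x _
  exact ((show Commute x (zp z al) from R.pc al x).pow_right _).mul_right
    ((show Commute x (zp z be) from R.pc be x).pow_right _)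

theorem elW_fold : ∀ (L : List ℕ) {t : ℕ}, t % 32 < 24 → (∀ k ∈ L, k < 3) →
    elT z al be t * elW s (t % 32) * (L.map s).prod =
      elT z al be (L.foldl stepW t) * elW s (L.foldl stepW t % 32)
  | [], t, _, _ => by simp
  | k :: L, t, ht, hL => by
    have hk := hL k (List.mem_cons_self ..)
    have hlt := sTab_lt _ ht k hk
    have hm : stepW t k % 32 = ent sTab 7 (t % 32 * 3 + k) % 32 := by
      simp only [stepW]; omega
    rw [List.map_cons, List.prod_cons, List.foldl_cons, ← mul_assoc, mul_assoc (elT z al be t),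
      R.elW_step ht hk, ← mul_assoc]
    have h := (R.elT_mul t (ent sTab 7 (t % 32 * 3 + k)) (ent sTab 7 (t % 32 * 3 + k) % 32)).resolve_right
      (by omega)
    have hst : stepW t k = ent sTab 7 (t % 32 * 3 + k) % 32 +
        32 * ((t / 32 % 2 + ent sTab 7 (t % 32 * 3 + k) / 32 % 2) % 2) +
        64 * ((t / 64 % 2 + ent sTab 7 (t % 32 * 3 + k) / 64 % 2) % 2) := rfl
    rw [← h, ← hst, ← hm]
    exact elW_fold L (by rw [hm]; exact hlt) fun l hl => hL l (List.mem_cons_of_mem _ hl)

theorem act_word : ∀ (L : List ℕ) {u : ℕ}, u < 32 → (∀ k ∈ L, k < 3) →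
    (L.map s).prod * elE z e u = elE z e (L.foldr sAct u) * (L.map s).prod ∧ L.foldr sAct u < 32
  | [], u, hu, _ => by simp [hu]
  | k :: L, u, hu, hL => by
    have hk := hL k (List.mem_cons_self ..)
    obtain ⟨h1, h2⟩ := act_word L hu fun l hl => hL l (List.mem_cons_of_mem _ hl)
    rw [List.map_cons, List.prod_cons, List.foldr_cons, mul_assoc, h1, ← mul_assoc, R.act_elE hk h2,
      mul_assoc]
    exact ⟨rfl, sAct_lt k hk _ h2⟩

theorem elT_sgn (t : ℕ) : elT z al be t = z ^ sgnOf al be t := by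
  have hs : sgnOf al be t = ((if al then t / 32 % 2 else 0) + (if be then t / 64 % 2 else 0)) % 2 := rfl
  rw [hs, R.zpow_two_mod, elT]
  cases al <;> cases be <;> simp [zp]

/-- The multiplication formula. -/
theorem el_mul {x y : ℕ × ℕ} (hx : x.1 < 32 ∧ x.2 < 24) (hy : y.1 < 32 ∧ y.2 < 24) :
    el z e s x * el z e s y = el z e s (mulM al be x y) := by
  obtain ⟨v, i⟩ := x; obtain ⟨u, j⟩ := y
  obtain ⟨hA, hAl⟩ := aAct_word i hx.2 u hy.1
  obtain ⟨hc, hcl⟩ := cTab_fold i hx.2 j hy.2
  have h1 := (R.act_word (word i) hy.1 (word_lt i hx.2)).1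
  rw [← hA] at h1
  have h2 := R.elW_fold (word j) (t := i) (by omega) (word_lt j hy.2)
  rw [← hc, Nat.mod_eq_of_lt (show i < 32 by omega), show elT z al be i = 1 by
    have e1 : i / 32 = 0 := Nat.div_eq_of_lt (by omega)
    have e2 : i / 64 = 0 := Nat.div_eq_of_lt (by omega)
    simp [elT, e1, e2], one_mul] at h2
  set t := ent cTab 7 (i * 24 + j) with ht
  show elE z e v * elW s i * (elE z e u * elW s j) =
    elE z e (emul v (aAct i u) ^^^ (16 * sgnOf al be t)) * elW s (t % 32)
  rw [R.elE_sgn (emul_lt v hx.1 _ hAl) (show sgnOf al be t < 2 from Nat.mod_lt _ (by norm_num)),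
    ← R.elE_mul hx.1 hAl]
  calc elE z e v * elW s i * (elE z e u * elW s j)
      = elE z e v * (elE z e (aAct i u) * (elW s i * elW s j)) := by
        rw [mul_assoc, ← mul_assoc (elW s i), show elW s i * elE z e u = elE z e (aAct i u) * elW s i from h1,
          mul_assoc]
    _ = elE z e v * (elE z e (aAct i u) * (z ^ sgnOf al be t * elW s (t % 32))) := by
        rw [show elW s i * elW s j = _ from h2, R.elT_sgn]
    _ = _ := by
        have hc : ∀ (w : H), w * z ^ sgnOf al be t = z ^ sgnOf al be t * w := fun w =>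
          ((show Commute w z from R.zc w).pow_right _).eq
        rw [← mul_assoc, ← mul_assoc, hc, mul_assoc]

end Rels

end Cfsg.Lib.AutPGL34
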