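import Cfsg.Agent.Lib.AutPGL34.Model

/-!
# The tables of the model are those of generators and relations
-/

set_option autoImplicit false
set_option maxRecDepth 100000
set_option maxHeartbeats 4000000

namespace Cfsg.Lib.AutPGL34

/-- The transposition of a letter. -/
def tp (k j : ℕ) : ℕ := if j = k then k + 1 else if j = k + 1 then k else j

/-- The ascending list of a vector. -/
def eList (v : ℕ) : List ℕ := (List.range 4).filter fun j => v / 2 ^ j % 2 == 1

/-- Right multiplication by a list of generators. -/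
def eFold (v : ℕ) (L : List ℕ) : ℕ := L.foldl (fun a j => emul a (2 ^ j)) v

/-- Conjugation by a letter. -/
def sAct (k u : ℕ) : ℕ :=
  (eList u).foldl (fun a j => emul a (16 + 2 ^ tp k j)) (u / 16 * 16)

/-- A word entry multiplied by a letter. -/
def stepW (t k : ℕ) : ℕ :=
  let s := ent sTab 7 (t % 32 * 3 + k)
  s % 32 + 32 * ((t / 32 % 2 + s / 32 % 2) % 2) + 64 * ((t / 64 % 2 + s / 64 % 2) % 2)

theorem emul_fold : ∀ v < 32, ∀ u < 32, emul v u = eFold v (eList u) ^^^ (u / 16 * 16) := by
  decide +kernel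

theorem emul_lt : ∀ v < 32, ∀ u < 32, emul v u < 32 := by decide +kernel

theorem emul_sgn : ∀ v < 32, emul 16 v = v ^^^ 16 ∧ emul v 16 = v ^^^ 16 ∧ emul 0 v = v ∧ emul v 0 = v := by
  decide +kernel

theorem aAct_word : ∀ i < 24, ∀ u < 32, aAct i u = (word i).foldr sAct u ∧ aAct i u < 32 := by
  decide +kernel

theorem sAct_lt : ∀ k < 3, ∀ u < 32, sAct k u < 32 := by decide +kernel

theorem cTab_fold : ∀ i < 24, ∀ j < 24,
    ent cTab 7 (i * 24 + j) = (word j).foldl stepW i ∧ ent cTab 7 (i * 24 + j) % 32 < 24 := by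
  decide +kernel

theorem sTab_lt : ∀ i < 24, ∀ k < 3, ent sTab 7 (i * 3 + k) % 32 < 24 := by decide +kernel

theorem word_lt : ∀ i < 24, ∀ k ∈ word i, k < 3 := by decide +kernel

end Cfsg.Lib.AutPGL34
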